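import Cfsg.Agent.Lib.Chev.TwMult.Triality.Weights
import Cfsg.Agent.Lib.Chev.TwD4

/-!
The defining-characteristic part of the multiplier of ³D₄(q) for `3 ≤ q`.
-/

set_option autoImplicit false
set_option linter.unusedSectionVars false
set_option maxRecDepth 100000

namespace Cfsg.Lib.Chev.TwMult.Tri

open Cfsg.Lie Cfsg.Lib.Chev.TwMult Cfsg.Lib.Chev.MultW
open scoped commutatorElement

universe u

variable {K : Type u} [Field K] [Fintype K] (M : Frame K)

theorem spanBelow_zero {G : Type*} [Group G] {X : ℕ → K → G} : spanBelow X 0 = ⊥ := by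
  rw [spanBelow, show {g : G | ∃ k < 0, ∃ a, X k a = g} = ∅ from
    Set.eq_empty_iff_forall_notMem.2 fun g ⟨k, hk, _⟩ => absurd hk (Nat.not_lt_zero _), Subgroup.closure_empty]

theorem X_commute_top {j : ℕ} (hj : j < 6) (h0 : 0 < j) (a b : K) : Commute (X M j a) (X M 0 b) := by
  have := closed M hj h0 a b
  rw [spanBelow_zero, Subgroup.mem_bot] at this
  exact commutatorElement_eq_one_iff_mul_comm.1 this

theorem X_commute_self {j : ℕ} (hj : j < 6) (a b : K) : Commute (X M j a) (X M j b) := by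
  show _ = _
  rw [← X_add M hj, ← X_add M hj, add_comm]

/-- The highest root group consists of commutators. -/
theorem top_comm (v : K) : ∃ b e : K, X M 0 v = ⁅X M 1 e, X M 4 b⁆ := by
  have hterms : tTerms tblD4 22 14 = [(23, -1, 1, 1)] := by decide +kernel
  obtain ⟨b, hb⟩ := tr_surj M (map_one M.f : M.f 1 = 1)
  obtain ⟨e, he⟩ := tr_surj M (c := -tr M v) (by rw [map_neg, f_tr])
  refine ⟨b, e, Subtype.ext ?_⟩
  rw [commutatorElement_def, Subgroup.coe_mul, Subgroup.coe_mul, Subgroup.coe_mul, InvMemClass.coe_inv,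
    InvMemClass.coe_inv, X_val M (by norm_num : 0 < 6), X_val M (by norm_num : 1 < 6), X_val M (by norm_num : 4 < 6)]
  simp only [el, hb, he, xg_inv, neg_neg]
  have hf := comm_formula fullCertD4.comm (F := K) (r := 22) (s := 14) (lt24 (by norm_num)) (lt24 (by norm_num))
    (by norm_num) (by decide +kernel) (tr M v) 1
  rw [ChevalleyDatum.commWord, commTerms_eq certD4C (lt24 (by norm_num)) (lt24 (by norm_num)), hterms] at hf
  have hu : xg certD4C 14 (1 : K) * xg certD4C 22 (tr M v) =
      xg certD4C 22 (tr M v) * xg certD4C 14 1 * xg certD4C 23 (tr M v) :=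
    Units.ext (by simpa [ChevalleyDatum.wordMat, coe_xg] using hf)
  have hc : Commute (xg certD4C 14 (-1 : K)) (xg certD4C 23 (tr M v)) := by
    obtain ⟨w, hw, e⟩ := conj_xg_of_chk certD4C fullCertD4.comm (F := K) (show chkTerms tblD4 [14] [23] [] = true by decide +kernel)
      (fun r hr => lt24 (by simp at hr; omega)) (fun r hr => lt24 (by simp at hr; omega))
      (List.mem_singleton_self 14) (List.mem_singleton_self 23) (-1 : K) (tr M v)
    have hbot : rootClosure certD4C K ([] : List ℕ) = ⊥ := by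
      rw [rootClosure, show {g : GL chevD4.Idx K | ∃ r ∈ ([] : List ℕ), ∃ t : K, g = xg certD4C r t} = ∅ from
        Set.eq_empty_iff_forall_notMem.2 fun g ⟨r, hr, _⟩ => absurd hr List.not_mem_nil, Subgroup.closure_empty]
    rw [hbot, Subgroup.mem_bot] at hw
    rw [hw, mul_one, mul_assoc, inv_mul_eq_iff_eq_mul] at e
    exact e.symm
  have h2 : xg certD4C 22 (-tr M v) * xg certD4C 14 1 * xg certD4C 22 (tr M v) = xg certD4C 14 1 * xg certD4C 23 (tr M v) := by
    rw [mul_assoc, hu, ← mul_assoc, ← mul_assoc, xg_add, neg_add_cancel, xg_zero, one_mul]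
  rw [h2, mul_assoc, ← hc.eq, ← mul_assoc, xg_add, add_neg_cancel, xg_zero, one_mul]

/-- A fixed monomial element exchanging the long root groups. -/
theorem conj_long {J k l : ℕ} (hJ : J < twD4.norb) (hk : k < 6) (hl : l < 6) {r s : ℕ}
    (hko : orbit k = [r]) (hlo : orbit l = [s]) (hw : wperm tblD4 (twD4.lw J) r = s) :
    ∃ n : ↥(grp M), ∀ v, ∃ v', X M l v = n * X M k v' * n⁻¹ := by
  obtain ⟨n, hn, hfix, hd⟩ := (ok M).rep J hJ
  refine ⟨⟨n, hn, hfix⟩, fun v => ?_⟩
  set g : ↥(grp M) := ⟨n, hn, hfix⟩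
  have hword : IsWord chevD4 (twD4.lw J) := twCombD4.lw_word J hJ
  have hmem : ((g⁻¹ * X M l v * g : ↥(grp M)) : GL chevD4.Idx K) ∈ Pset certD4C [r] := by
    refine (mono_conj_pset certD4C hword hd (fun x hx => orbit_lt hk x (hko.symm ▸ hx))).2 ?_
    rw [List.map_cons, List.map_nil, hw]
    have e : n * ((g⁻¹ * X M l v * g : ↥(grp M)) : GL chevD4.Idx K) * n⁻¹ = (X M l v : GL chevD4.Idx K) := by
      simp only [Subgroup.coe_mul, InvMemClass.coe_inv, g]; group
    rw [e, X_val M hl]
    obtain ⟨t, ht, -⟩ := el_lprod M l hl v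
    exact ⟨t, hlo ▸ ht⟩
  obtain ⟨v', hv'⟩ := pset_orbit M hk (hko.symm ▸ hmem) (g⁻¹ * X M l v * g).2.2
  refine ⟨v', ?_⟩
  have e : g⁻¹ * X M l v * g = X M k v' := Subtype.ext (by rw [hv', X_val M hk])
  rw [← e]; group

theorem span_top : ∀ g : ↥(grp M), g ∈ spanBelow (X M) 6 ↔ (g : GL chevD4.Idx K) ∈ Pset certD4C (below 6) :=
  fun g => ⟨fun h => by rw [pset_closure le_rfl]; exact span_mem_closure M le_rfl h, fixed_mem_span M 6 le_rfl g⟩

theorem card_span : ∀ j ≤ 6, Nat.card ↥(spanBelow (X M) j) =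
    M.q ^ ([0, 1, 2, 5, 8, 9, 12].getD j 0) := by
  intro j
  induction j with
  | zero => intro _; rw [spanBelow_zero]; simp
  | succ j ih =>
    intro hj
    have hj' : j < 6 := hj
    classical
    let R : Set ↥(grp M) := Set.range (X M j)
    have hR : Nat.card R = M.q ^ ([1, 1, 3, 3, 1, 3].getD j 0) := by
      have hfix : Nat.card {v : K // M.f v = v} = M.q := by
        have := card_fixed_field (K := K) (q := M.q) (k := 3) (j := 1) M.hq.two_le
          (by rw [Nat.card_eq_fintype_card, M.hK]) (one_dvd 3)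
        simp only [pow_one] at this
        rw [← this]
        exact Nat.card_congr (Equiv.subtypeEquivRight fun v => by rw [M.pow])
      have long : ∀ r, orbit j = [r] → (∀ v, el M j v = xg certD4C r (tr M v)) → Nat.card R = M.q := fun r hr he => by
        rw [← hfix]
        refine (Nat.card_eq_of_bijective (fun c : {c : K // M.f c = c} => (⟨X M j (tr_surj M c.2).choose, ⟨_, rfl⟩⟩ : R))
          ⟨fun a b h => ?_, ?_⟩).symm
        · have h1 := congrArg (fun g : R => ((g : ↥(grp M)) : GL chevD4.Idx K)) h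
          simp only [X_val M hj', he, (tr_surj M a.2).choose_spec, (tr_surj M b.2).choose_spec] at h1
          refine Subtype.ext ?_
          have h2 : lprod certD4C [r] (fun _ => a.1) = lprod certD4C [r] (fun _ => b.1) := by simpa [lprod] using h1
          exact lprod_inj certD4C fullCertD4.comm (List.nodup_singleton r)
            (fun x hx => below_range (j := j + 1) hj x (orbit_sub j hj' x (hr ▸ hx))) h2 r (List.mem_singleton_self r)
        · rintro ⟨_, v, rfl⟩
          refine ⟨⟨tr M v, f_tr M v⟩, Subtype.ext (Subtype.ext ?_)⟩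
          rw [X_val M hj', X_val M hj', he, he, (tr_surj M (f_tr M v)).choose_spec]
      have short : ∀ r s u, orbit j = [r, s, u] → (∀ v, el M j v = xg certD4C r v * xg certD4C s (M.f v) *
          xg certD4C u (M.f (M.f v)) ∨ el M j v = xg certD4C r v * xg certD4C s (M.f v) * xg certD4C u (-M.f (M.f v))) →
          Nat.card R = M.q ^ 3 := fun r s u hr he => by
        rw [← M.hK, ← Nat.card_eq_fintype_card]
        refine (Nat.card_eq_of_bijective (fun v : K => (⟨X M j v, ⟨v, rfl⟩⟩ : R)) ⟨fun a b h => ?_, ?_⟩).symm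
        · have h1 : el M j a = el M j b := by
            have := congrArg (fun g : R => ((g : ↥(grp M)) : GL chevD4.Idx K)) h
            simpa only [X_val M hj'] using this
          have hnd : [r, s, u].Nodup := by
            have := below_nodup (j + 1) hj
            rw [below, List.nodup_append, hr] at this
            exact this.1
          obtain ⟨hrs, hru, hsu⟩ : r ≠ s ∧ r ≠ u ∧ s ≠ u := by
            simp only [List.nodup_cons, List.mem_cons, List.not_mem_nil, or_false, not_or] at hnd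
            exact ⟨hnd.1.1, hnd.1.2, hnd.2.1⟩
          have key : ∀ w, ∃ t, el M j w = lprod certD4C [r, s, u] t ∧ t r = w := fun w => by
            rcases he w with e | e
            · exact ⟨fun x => if x = r then w else if x = s then M.f w else M.f (M.f w),
                by simp [lprod, e, hrs.symm, hru.symm, hsu.symm, mul_assoc], by simp⟩
            · exact ⟨fun x => if x = r then w else if x = s then M.f w else -M.f (M.f w),
                by simp [lprod, e, hrs.symm, hru.symm, hsu.symm, mul_assoc], by simp⟩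
          obtain ⟨ta, ha, ha'⟩ := key a
          obtain ⟨tb, hb, hb'⟩ := key b
          rw [← ha', ← hb']
          exact lprod_inj certD4C fullCertD4.comm hnd
            (fun x hx => below_range (j := j + 1) hj x (orbit_sub j hj' x (hr.symm ▸ hx))) (ha.symm.trans (h1.trans hb)) r (by simp)
        · rintro ⟨_, v, rfl⟩; exact ⟨v, rfl⟩
      interval_cases j
      · simpa using long 23 rfl fun _ => rfl
      · simpa using long 22 rfl fun _ => rfl
      · simpa using short 20 21 17 rfl fun _ => Or.inr rfl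
      · simpa using short 16 15 19 rfl fun _ => Or.inr rfl
      · simpa using long 14 rfl fun _ => rfl
      · simpa using short 18 13 12 rfl fun _ => Or.inl rfl
    have hcard : Nat.card ↥(spanBelow (X M) (j + 1)) = Nat.card R * Nat.card ↥(spanBelow (X M) j) := by
      rw [← Nat.card_prod]
      refine (Nat.card_eq_of_bijective (fun z : R × ↥(spanBelow (X M) j) =>
        (⟨(z.1 : ↥(grp M)) * (z.2 : ↥(grp M)), by
          obtain ⟨v, hv⟩ := z.1.2
          exact mul_mem (hv ▸ mem_spanBelow (Nat.lt_succ_self j) v) (spanBelow_mono (Nat.le_succ j) z.2.2)⟩ :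
          ↥(spanBelow (X M) (j + 1)))) ⟨?_, ?_⟩).symm
      · rintro ⟨⟨_, a, rfl⟩, w⟩ ⟨⟨_, b, rfl⟩, w'⟩ h
        have h1 : X M j a * (w : ↥(grp M)) = X M j b * w' := congrArg Subtype.val h
        have hn : X M j (-b) * X M j b = 1 := by
          rw [← X_add M hj', neg_add_cancel]
          exact mul_eq_left.1 (by rw [← X_add M hj', add_zero] : X M j 0 * X M j 0 = X M j 0)
        have h2 : X M j (-b + a) ∈ spanBelow (X M) j := by
          rw [X_add M hj', show X M j (-b) * X M j a = X M j (-b) * (X M j a * (w : ↥(grp M))) * (w : ↥(grp M))⁻¹ by group,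
            h1, ← mul_assoc, hn, one_mul]
          exact mul_mem w'.2 (inv_mem w.2)
        have h3 := inj M hj' _ h2
        rw [X_add M hj', eq_inv_of_mul_eq_one_left hn, inv_mul_eq_one] at h3
        rw [h3] at h1
        exact Prod.ext (Subtype.ext h3.symm) (Subtype.ext (mul_left_cancel h1))
      · rintro ⟨g, hg⟩
        have hg' : (g : GL chevD4.Idx K) ∈ Pset certD4C (below (j + 1)) := by
          rw [pset_closure hj]; exact span_mem_closure M hj hg
        obtain ⟨v, w, hw, hwf, e⟩ := fixed_split M hj' hg' g.2.2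
        have hwG : w ∈ chevD4.group K := by
          rw [show w = (el M j v)⁻¹ * (g : GL chevD4.Idx K) by rw [e, inv_mul_cancel_left]]
          exact mul_mem (inv_mem (el_group M j v)) g.2.1
        refine ⟨(⟨X M j v, ⟨v, rfl⟩⟩, ⟨⟨w, (mem_grp M).2 ⟨hwG, hwf⟩⟩,
          fixed_mem_span M j hj'.le _ hw⟩), Subtype.ext (Subtype.ext ?_)⟩
        rw [Subgroup.coe_mul, X_val M hj']
        exact e.symm
    rw [hcard, hR, ih hj'.le, ← pow_add]
    congr 1
    interval_cases j <;> rfl

/-- No stem extension with kernel of the defining characteristic. -/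
theorem p_part (h3 : 3 ≤ M.q) {p : ℕ} [hp : Fact p.Prime] [CharP K p] {Γ : Type u} [Group Γ] [Finite Γ]
    (σ : Γ →* ↥(grp M)) (hs : Function.Surjective σ) (hc : σ.ker ≤ Subgroup.center Γ) (hcard : Nat.card σ.ker = p) :
    ¬ σ.ker ≤ commutator Γ := by
  obtain ⟨hmoved, hpair, hself⟩ := sep M h3
  set D := chain M hmoved
  have hconj : ∀ (i : Par M) (j : ℕ), j < 6 → ∀ a, tor M i * X M j a * (tor M i)⁻¹ = X M j (lam M i j * a) :=
    fun i j hj a => D.conj i j hj a
  have hX : ∀ (j : ℕ), j < 6 → ∀ (Y : K → ↥(grp M)) (a a' : K), ∃ w, (∀ b, LComm σ w (Y b)) ∧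
      X M j (a + a') = X M j a * X M j a' * w := fun j hj Y a a' =>
    ⟨1, fun b => lcomm_symm (lcomm_one hs hc _), by rw [mul_one, X_add M hj]⟩
  have hshort : ∀ j, j = 2 ∨ j = 3 ∨ j = 5 → ∀ a b, LComm σ (X M j a) (X M j b) := by
    intro j hj a b
    have hj6 : j < 6 := by omega
    obtain ⟨i, h0, hne⟩ := hself p hp.out inferInstance j hj
    exact lcomm_pair hs hc p (X M j) (X M j) (tor M i) (fun a b => X_commute_self M hj6 a b) (hX j hj6 _)
      (fun a b => X_add M hj6 a b) (hconj i j hj6) (hconj i j hj6) h0 hne a b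
  have htop : ∀ j, j = 1 ∨ j = 4 → ∀ a b, LComm σ (X M j a) (X M 0 b) := by
    intro j hj a b
    obtain ⟨i, h0, hne⟩ := hpair p hp.out inferInstance j (by omega) 0 (by omega)
    exact lcomm_pair hs hc p (X M j) (X M 0) (tor M i) (fun a b => X_commute_top M (by omega) (by omega) a b)
      (hX j (by omega) _) (fun a b => X_add M (by norm_num) a b) (hconj i j (by omega)) (hconj i 0 (by norm_num)) h0 hne a b
  have hH : ∀ a b, LComm σ (X M 0 a) (X M 0 b) := by
    intro a b A B hA hB
    obtain ⟨x, y, e⟩ := top_comm M a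
    obtain ⟨P, hP⟩ := hs (X M 1 y)
    obtain ⟨Q, hQ⟩ := hs (X M 4 x)
    have c1 : Commute P B := htop 1 (Or.inl rfl) y b P B hP hB
    have c2 : Commute Q B := htop 4 (Or.inr rfl) x b Q B hQ hB
    have hz : A * ⁅P, Q⁆⁻¹ ∈ σ.ker := by
      rw [MonoidHom.mem_ker, map_mul, map_inv, map_commutatorElement, hP, hQ, hA, e, mul_inv_cancel]
    have c3 : Commute ⁅P, Q⁆ B := ((c1.mul_left c2).mul_left c1.inv_left).mul_left c2.inv_left
    have c4 : Commute (A * ⁅P, Q⁆⁻¹) B := (mem_center_comm hc hz B).symm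
    have c5 := c4.mul_left c3
    rwa [inv_mul_cancel_right] at c5
  have hmove : ∀ (k l : ℕ) (n : ↥(grp M)), (∀ v, ∃ v', X M l v = n * X M k v' * n⁻¹) →
      (∀ a b, LComm σ (X M k a) (X M k b)) → ∀ a b, LComm σ (X M l a) (X M l b) := by
    intro k l n hn hk a b A B hA hB
    obtain ⟨a', ha⟩ := hn a
    obtain ⟨b', hb⟩ := hn b
    obtain ⟨N, hN⟩ := hs n
    have h1 := hk a' b' (N⁻¹ * A * N) (N⁻¹ * B * N)
      (by rw [map_mul, map_mul, map_inv, hN, hA, ha]; group)
      (by rw [map_mul, map_mul, map_inv, hN, hB, hb]; group)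
    calc A * B = N * (N⁻¹ * A * N * (N⁻¹ * B * N)) * N⁻¹ := by group
      _ = N * (N⁻¹ * B * N * (N⁻¹ * A * N)) * N⁻¹ := by rw [h1]
      _ = B * A := by group
  obtain ⟨n1, hn1⟩ := conj_long M (J := 1) (k := 0) (l := 1) (by decide) (by norm_num) (by norm_num) (r := 23) (s := 22)
    rfl rfl (by decide +kernel)
  obtain ⟨n0, hn0⟩ := conj_long M (J := 0) (k := 1) (l := 4) (by decide) (by norm_num) (by norm_num) (r := 22) (s := 14)
    rfl rfl (by decide +kernel)
  have hE := hmove 0 1 n1 hn1 hH
  have hB := hmove 1 4 n0 hn0 hE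
  have hab : ∀ j < D.N, ∀ a b, LComm σ (D.X j a) (D.X j b) := by
    intro j hj
    have hj' : j < 6 := hj
    show ∀ a b, LComm σ (X M j a) (X M j b)
    interval_cases j
    exacts [hH, hE, hshort 2 (by norm_num), hshort 3 (by norm_num), hB, hshort 5 (by norm_num)]
  -- the Sylow subgroup
  have hpq : ∃ k, M.q = p ^ k := by
    obtain ⟨n, -, hn⟩ := FiniteField.card K p
    exact ((Nat.dvd_prime_pow hp.out).1 (by rw [← hn, M.hK]; exact dvd_pow_self _ (by norm_num))).imp fun k h => h.2
  obtain ⟨k, hk⟩ := hpq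
  have hc12 : Nat.card ↥(spanBelow (X M) 6) = M.q ^ 12 := card_span M 6 le_rfl
  have hord : Nat.card ↥(grp M) = M.q ^ 12 * (M.q ^ 2 - 1) * (M.q ^ 6 - 1) * (M.q ^ 8 + M.q ^ 4 + 1) := by
    rw [← twistedD4_order M.hq M.hK, grp_eq M]
  have hP : IsPGroup p ↥(spanBelow (X M) 6) := IsPGroup.of_card (n := k * 12) (by rw [hc12, hk, ← pow_mul])
  have hidx : ¬ p ∣ (spanBelow (X M) 6).index := by
    have hmul := (spanBelow (X M) 6).card_mul_index
    rw [hc12, hord, mul_assoc, mul_assoc] at hmul
    rw [Nat.eq_of_mul_eq_mul_left (pow_pos (by omega) 12) hmul]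
    have hpd : p ∣ M.q := by
      rw [hk]
      refine dvd_pow_self p fun e => ?_
      rw [hk, e] at h3; norm_num at h3
    intro hd
    have hne : ∀ j, j ≠ 0 → ¬ p ∣ M.q ^ j - 1 := fun j hj h => hp.out.not_dvd_one (by
      have h1 : p ∣ M.q ^ j := dvd_pow hpd hj
      have h2 : 1 ≤ M.q ^ j := Nat.one_le_pow _ _ (by omega)
      simpa [Nat.sub_sub_self h2] using Nat.dvd_sub h1 h)
    rcases hp.out.dvd_mul.1 hd with h | h
    · exact hne 2 (by norm_num) h
    · rcases hp.out.dvd_mul.1 h with h | h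
      · exact hne 6 (by norm_num) h
      · exact hp.out.not_dvd_one ((Nat.dvd_add_right (dvd_add (dvd_pow hpd (by norm_num)) (dvd_pow hpd (by norm_num)))).1 h)
  refine D.not_le hs hc p hab (fun j hj k hk => hpair p hp.out inferInstance j hj k hk) hcard (hP.toSylow hidx) ?_
  exact le_of_eq rfl

end Cfsg.Lib.Chev.TwMult.Tri
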