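import Cfsg.Agent.Lib.Chev.TwMult.Triality.Levi
import Cfsg.Agent.Lib.Chev.TwMult.Triality.PPart
import Cfsg.Agent.Lib.Chev.TwMult.RankOne

/-!
³D₄(q) as a group of rank two: the cross-characteristic part of the multiplier vanishes.
-/

set_option autoImplicit false
set_option linter.unusedSectionVars false
set_option maxRecDepth 100000

namespace Cfsg.Lib.Chev.TwMult.Tri

open Cfsg.Lie Cfsg.Lib.Chev.TwMult
open scoped MatrixGroups commutatorElement

universe u

variable {K : Type u} [Field K] [Fintype K] (M : Frame K)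

theorem lwr_upr_conj {F : Type*} [Field F] (b : F) :
    (SLTwoRel.rot : SL(2, F)) * SLTwoRel.upr b * SLTwoRel.rot⁻¹ = SLTwoRel.lwr (-b) ∧
    (SLTwoRel.rot : SL(2, F)) * SLTwoRel.lwr b * SLTwoRel.rot⁻¹ = SLTwoRel.upr (-b) := by
  constructor <;> rw [mul_inv_eq_iff_eq_mul] <;> refine Subtype.ext ?_ <;> ext i j <;>
    fin_cases i <;> fin_cases j <;>
      simp [SLTwoRel.coe_rot, SLTwoRel.coe_upr, coe_lwr, Matrix.mul_apply, Fin.sum_univ_two] <;> ring

theorem lwr_dec {F : Type*} [Field F] {b : F} (hb : b ≠ 0) :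
    SLTwoRel.lwr b = SLTwoRel.upr b⁻¹ * SLTwoRel.tri (-b⁻¹) 0 (neg_ne_zero.2 (inv_ne_zero hb)) *
      (SLTwoRel.rot : SL(2, F)) * SLTwoRel.upr b⁻¹ := by
  refine Subtype.ext ?_
  ext i j
  fin_cases i <;> fin_cases j <;>
    simp [SLTwoRel.coe_rot, SLTwoRel.coe_upr, SLTwoRel.coe_tri, coe_lwr, Matrix.mul_apply, Fin.sum_univ_two] <;>
    field_simp <;> ring

theorem sl_form {F : Type*} [Field F] (g : SL(2, F)) :
    (∃ x a, ∃ ha : a ≠ 0, g = SLTwoRel.upr x * SLTwoRel.tri a 0 ha) ∨
      ∃ x a y, ∃ ha : a ≠ 0, g = SLTwoRel.upr x * SLTwoRel.tri a 0 ha * SLTwoRel.rot * SLTwoRel.upr y := by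
  have hdet : g.1 0 0 * g.1 1 1 - g.1 0 1 * g.1 1 0 = 1 := by rw [← Matrix.det_fin_two]; exact g.2
  by_cases hc : g.1 1 0 = 0
  · have ha : g.1 0 0 ≠ 0 := fun e => by rw [e, hc] at hdet; simp at hdet
    refine Or.inl ⟨g.1 0 0 * g.1 0 1, g.1 0 0, ha, Subtype.ext ?_⟩
    rw [hc, mul_zero, sub_zero] at hdet
    ext i j
    fin_cases i <;> fin_cases j <;>
      simp [SLTwoRel.coe_upr, SLTwoRel.coe_tri, hc, Matrix.mul_apply, Fin.sum_univ_two] <;> field_simp
    linear_combination hdet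
  · refine Or.inr ⟨g.1 0 0 / g.1 1 0, -(g.1 1 0)⁻¹, g.1 1 1 / g.1 1 0, neg_ne_zero.2 (inv_ne_zero hc), Subtype.ext ?_⟩
    ext i j
    fin_cases i <;> fin_cases j <;>
      simp [SLTwoRel.coe_upr, SLTwoRel.coe_rot, SLTwoRel.coe_tri, Matrix.mul_apply, Fin.sum_univ_two] <;> field_simp
    linear_combination -hdet

/-- The Weyl element of a simple orbit. -/
noncomputable def nTri (i : Fin 2) : ↥(grp M) := if i = 0 then homA M SLTwoRel.rot else homB M SLTwoRel.rot

/-- The word of a simple orbit. -/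
def wrd (i : Fin 2) : List ℕ := if i = 0 then [0, 2, 3] else [1]

theorem wrd_word (i : Fin 2) : IsWord chevD4 (wrd i) := by
  fin_cases i <;> intro x hx <;> simp [wrd] at hx <;> (show x < 4) <;> omega

theorem nTri_val (i : Fin 2) : (nTri M i : GL chevD4.Idx K) = wnu certD4C K (wrd i) := by
  fin_cases i
  · exact phiA_rot M
  · exact phiB_rot M

/-- The diagonal subgroup of the group. -/
noncomputable def hTri : Subgroup ↥(grp M) := (chevD4.diagonalSubgroup K).subgroupOf (grp M)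

theorem mem_hTri {g : ↥(grp M)} : g ∈ hTri M ↔ (g : GL chevD4.Idx K) ∈ chevD4.diagonalSubgroup K := Iff.rfl

/-- Positive root groups of the simple orbits. -/
noncomputable def xTri (i : Fin 2) : Subgroup ↥(grp M) :=
  if i = 0 then Subgroup.closure (Set.range fun b => homA M (SLTwoRel.upr b))
  else Subgroup.closure (Set.range fun b => homB M (SLTwoRel.upr b))

/-- Negative root groups of the simple orbits. -/
noncomputable def yTri (i : Fin 2) : Subgroup ↥(grp M) :=
  if i = 0 then Subgroup.closure (Set.range fun b => homA M (SLTwoRel.lwr b))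
  else Subgroup.closure (Set.range fun b => homB M (SLTwoRel.lwr b))

theorem homA_upr (b : K) : homA M (SLTwoRel.upr b) = X M 5 b :=
  Subtype.ext ((phiA_upr M b).trans (X_val M (by norm_num) b).symm)

theorem homB_upr (v : K) : X M 4 v = homB M (SLTwoRel.upr ⟨tr M v, f_tr M v⟩) := by
  refine Subtype.ext ?_
  rw [X_val M (by norm_num)]
  show el M 4 v = phiB M _
  rw [phiB_upr]
  rfl

theorem mem_xTri {i : Fin 2} {g : ↥(grp M)} : g ∈ xTri M i ↔ ∃ v, g = X M (5 - i.val) v := by
  have key : ∀ j < 6, ∀ g : ↥(grp M), g ∈ Subgroup.closure (Set.range (X M j)) ↔ ∃ v, g = X M j v := fun j hj g => by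
    let φ : Multiplicative K →* ↥(grp M) := MonoidHom.mk' (fun a => X M j a.toAdd) fun a b => X_add M hj _ _
    constructor
    · intro h
      obtain ⟨a, rfl⟩ := (Subgroup.closure_le φ.range).2
        (by rintro _ ⟨v, rfl⟩; exact ⟨Multiplicative.ofAdd v, rfl⟩) h
      exact ⟨a.toAdd, rfl⟩
    · rintro ⟨v, rfl⟩; exact Subgroup.subset_closure ⟨v, rfl⟩
  fin_cases i
  · show g ∈ Subgroup.closure (Set.range fun b => homA M (SLTwoRel.upr b)) ↔ ∃ v, g = X M 5 v
    rw [show (Set.range fun b => homA M (SLTwoRel.upr b)) = Set.range (X M 5) from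
      congrArg Set.range (funext fun b => homA_upr M b)]
    exact key 5 (by norm_num) g
  · show g ∈ Subgroup.closure (Set.range fun b => homB M (SLTwoRel.upr b)) ↔ ∃ v, g = X M 4 v
    rw [show (Set.range fun b => homB M (SLTwoRel.upr b)) = Set.range (X M 4) from ?_]
    · exact key 4 (by norm_num) g
    ext y
    constructor
    · rintro ⟨b, rfl⟩
      obtain ⟨v, hv⟩ := tr_surj M (c := (b : K)) b.2
      exact ⟨v, (homB_upr M v).trans (congrArg (homB M) (congrArg SLTwoRel.upr (Subtype.ext hv)))⟩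
    · rintro ⟨v, rfl⟩; exact ⟨_, (homB_upr M v).symm⟩

theorem yTri_map (i : Fin 2) : yTri M i = (xTri M i).map (MulAut.conj (nTri M i)).toMonoidHom := by
  fin_cases i
  · show Subgroup.closure (Set.range fun b => homA M (SLTwoRel.lwr b)) =
      (Subgroup.closure (Set.range fun b => homA M (SLTwoRel.upr b))).map _
    rw [MonoidHom.map_closure]
    congr 1
    ext y
    constructor
    · rintro ⟨b, rfl⟩
      refine ⟨_, ⟨-b, rfl⟩, ?_⟩
      show homA M SLTwoRel.rot * homA M (SLTwoRel.upr (-b)) * (homA M SLTwoRel.rot)⁻¹ = _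
      rw [← map_inv, ← map_mul, ← map_mul, (lwr_upr_conj (-b)).1, neg_neg]
    · rintro ⟨_, ⟨b, rfl⟩, rfl⟩
      refine ⟨-b, ?_⟩
      show _ = homA M SLTwoRel.rot * homA M (SLTwoRel.upr b) * (homA M SLTwoRel.rot)⁻¹
      rw [← map_inv, ← map_mul, ← map_mul, (lwr_upr_conj b).1]
  · show Subgroup.closure (Set.range fun b => homB M (SLTwoRel.lwr b)) =
      (Subgroup.closure (Set.range fun b => homB M (SLTwoRel.upr b))).map _
    rw [MonoidHom.map_closure]
    congr 1
    ext y
    constructor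
    · rintro ⟨b, rfl⟩
      refine ⟨_, ⟨-b, rfl⟩, ?_⟩
      show homB M SLTwoRel.rot * homB M (SLTwoRel.upr (-b)) * (homB M SLTwoRel.rot)⁻¹ = _
      rw [← map_inv, ← map_mul, ← map_mul, (lwr_upr_conj (-b)).1, neg_neg]
    · rintro ⟨_, ⟨b, rfl⟩, rfl⟩
      refine ⟨-b, ?_⟩
      show _ = homB M SLTwoRel.rot * homB M (SLTwoRel.upr b) * (homB M SLTwoRel.rot)⁻¹
      rw [← map_inv, ← map_mul, ← map_mul, (lwr_upr_conj b).1]

theorem nTri_sq (i : Fin 2) : nTri M i * nTri M i ∈ hTri M := by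
  rw [mem_hTri, Subgroup.coe_mul, nTri_val, ← wnu_append]
  have hid : ∀ i : Fin 2, ∀ k < 4, wperm tblD4 [] (tblD4.simp' k) = wperm tblD4 (wrd i ++ wrd i) (tblD4.simp' k) := by
    decide +kernel
  have := same_of_perm certD4C fullCertD4 (F := K) (v := []) (w := wrd i ++ wrd i)
    (fun x hx => absurd hx List.not_mem_nil) ((wrd_word i).append (wrd_word i)) (hid i)
  simpa [wnu] using this

theorem nTri_conj_H (i : Fin 2) {h : ↥(grp M)} (hh : h ∈ hTri M) : nTri M i * h * (nTri M i)⁻¹ ∈ hTri M := by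
  rw [mem_hTri] at hh ⊢
  simp only [Subgroup.coe_mul, InvMemClass.coe_inv, nTri_val]
  exact (conj_mem_diag certD4C (wnu_mem certD4C (wrd_word i)) hh).1

theorem conj_x (i : Fin 2) {h x : ↥(grp M)} (hh : h ∈ hTri M) (hx : x ∈ xTri M i) : h * x * h⁻¹ ∈ xTri M i := by
  obtain ⟨v, rfl⟩ := (mem_xTri M).1 hx
  obtain ⟨c, hc⟩ : ∃ c, torusHom chevD4 tblD4 K c = (h : GL chevD4.Idx K) := by
    have := (mem_hTri M).1 hh; rwa [← torusHom_range certD4C] at this
  have hj : 5 - i.val < 6 := by omega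
  obtain ⟨t, ht, -⟩ := el_lprod M (5 - i.val) hj v
  have hmem : ((h * X M (5 - i.val) v * h⁻¹ : ↥(grp M)) : GL chevD4.Idx K) ∈ Pset certD4C (orbit (5 - i.val)) := by
    refine ⟨fun r => chr tblD4 chevD4 (extend' c) r * t r, ?_⟩
    simp only [Subgroup.coe_mul, InvMemClass.coe_inv, X_val M hj, ht, ← hc]
    rw [← MulAut.conj_apply, lprod, lprod, map_list_prod, List.map_map]
    refine congrArg List.prod (List.map_congr_left fun r hr => ?_)
    exact torusHom_conj_xg certD4C c (orbit_lt hj r hr) (t r)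
  obtain ⟨w, hw⟩ := pset_orbit M hj hmem (h * X M (5 - i.val) v * h⁻¹).2.2
  exact (mem_xTri M).2 ⟨w, Subtype.ext (hw.trans (X_val M hj w).symm)⟩

theorem conj_y (i : Fin 2) {h y : ↥(grp M)} (hh : h ∈ hTri M) (hy : y ∈ yTri M i) : h * y * h⁻¹ ∈ yTri M i := by
  rw [yTri_map] at hy ⊢
  obtain ⟨x, hx, rfl⟩ := hy
  have h1 := nTri_conj_H M i hh
  have h2 : (nTri M i)⁻¹ * h * nTri M i ∈ hTri M := by
    have := nTri_conj_H M i (mul_mem (mul_mem (inv_mem (nTri_sq M i)) hh) (nTri_sq M i))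
    rw [show (nTri M i)⁻¹ * h * nTri M i =
      nTri M i * ((nTri M i * nTri M i)⁻¹ * h * (nTri M i * nTri M i)) * (nTri M i)⁻¹ by group]
    exact this
  refine ⟨_, conj_x M i h2 hx, ?_⟩
  show nTri M i * _ * (nTri M i)⁻¹ = h * (nTri M i * x * (nTri M i)⁻¹) * h⁻¹
  group

/-- The roots of the complement of a simple orbit. -/
def vList (i : Fin 2) : List ℕ := if i = 0 then below 5 else orbit 5 ++ below 4

theorem vList_facts : ∀ i : Fin 2, (∀ r ∈ vList i, r < 24) ∧ (∀ r ∈ vList i, symD4_3.root r ∈ vList i) ∧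
    (∀ r ∈ vList i, wperm tblD4 (wrd i) r ∈ vList i) ∧ chkTerms tblD4 (orbit (5 - i.val)) (vList i) (vList i) = true ∧
    (∀ r ∈ vList i, r ∈ below 6) ∧ (∀ r ∈ orbit (5 - i.val), r ∈ below 6) := by decide +kernel

/-- The complement in `U` of a simple orbit. -/
noncomputable def vTri (i : Fin 2) : Subgroup ↥(grp M) := (rootClosure certD4C K (vList i)).subgroupOf (grp M)

/-- The unipotent subgroup. -/
noncomputable def uTri : Subgroup ↥(grp M) := (rootClosure certD4C K (below 6)).subgroupOf (grp M)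

theorem uTri_eq : uTri M = spanBelow (X M) 6 := by
  ext g
  rw [span_top, pset_closure le_rfl]
  rfl

theorem split_u (i : Fin 2) {g : ↥(grp M)} (hg : g ∈ uTri M) : ∃ v ∈ vTri M i, ∃ x ∈ xTri M i, g = v * x := by
  obtain ⟨-, -, -, hchk, -, -⟩ := vList_facts i
  have hlt : ∀ r ∈ vList i, r < chevD4.nroots := fun r hr => lt24 ((vList_facts i).1 r hr)
  have hg' : (g : GL chevD4.Idx K) ∈ Pset certD4C (below 6) := by rw [pset_closure le_rfl]; exact hg
  obtain ⟨v5, w, hw, hwf, e⟩ := fixed_split M (j := 5) (by norm_num) hg' g.2.2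
  have hwG : w ∈ chevD4.group K := by
    rw [show w = (el M 5 v5)⁻¹ * (g : GL chevD4.Idx K) by rw [e, inv_mul_cancel_left]]
    exact mul_mem (inv_mem (el_group M 5 v5)) g.2.1
  let W : ↥(grp M) := ⟨w, (mem_grp M).2 ⟨hwG, hwf⟩⟩
  have hgW : g = X M 5 v5 * W := Subtype.ext (by rw [Subgroup.coe_mul, X_val M (by norm_num)]; exact e)
  fin_cases i
  · refine ⟨X M 5 v5 * W * (X M 5 v5)⁻¹, ?_, X M 5 v5, (mem_xTri M).2 ⟨v5, rfl⟩, by rw [hgW]; group⟩
    change ((X M 5 v5 * W * (X M 5 v5)⁻¹ : ↥(grp M)) : GL chevD4.Idx K) ∈ rootClosure certD4C K (vList 0)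
    simp only [Subgroup.coe_mul, InvMemClass.coe_inv, X_val M (show 5 < 6 by norm_num)]
    refine (rootClosure_conj certD4C fullCertD4.comm hchk (orbit_lt (by norm_num)) hlt (el_mem_closure M 5 (by norm_num) v5)).1 _ ?_
    change _ ∈ rootClosure certD4C K (vList 0)
    rw [show vList 0 = below 5 from rfl, ← SetLike.mem_coe, ← pset_closure (by norm_num : 5 ≤ 6)]
    exact hw
  · obtain ⟨v4, z, hz, hzf, e4⟩ := fixed_split M (j := 4) (by norm_num) hw hwf
    have hzG : z ∈ chevD4.group K := by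
      rw [show z = (el M 4 v4)⁻¹ * w by rw [e4, inv_mul_cancel_left]]
      exact mul_mem (inv_mem (el_group M 4 v4)) hwG
    let Z : ↥(grp M) := ⟨z, (mem_grp M).2 ⟨hzG, hzf⟩⟩
    have hW : W = X M 4 v4 * Z := Subtype.ext (by rw [Subgroup.coe_mul, X_val M (by norm_num)]; exact e4)
    refine ⟨X M 5 v5 * (X M 4 v4 * Z * (X M 4 v4)⁻¹), ?_, X M 4 v4, (mem_xTri M).2 ⟨v4, rfl⟩, by rw [hgW, hW]; group⟩
    change ((X M 5 v5 * (X M 4 v4 * Z * (X M 4 v4)⁻¹) : ↥(grp M)) : GL chevD4.Idx K) ∈ rootClosure certD4C K (vList 1)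
    simp only [Subgroup.coe_mul, InvMemClass.coe_inv, X_val M (show 4 < 6 by norm_num), X_val M (show 5 < 6 by norm_num)]
    refine mul_mem (rootClosure_mono certD4C (List.subset_append_left _ _) (el_mem_closure M 5 (by norm_num) v5)) ?_
    refine (rootClosure_conj certD4C fullCertD4.comm hchk (orbit_lt (by norm_num)) hlt (el_mem_closure M 4 (by norm_num) v4)).1 _ ?_
    refine rootClosure_mono certD4C (List.subset_append_right _ _) ?_
    rw [← SetLike.mem_coe, ← pset_closure (by norm_num : 4 ≤ 6)]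
    exact hz

/-- A monomial element with its word. -/
theorem monomial_form {g : ↥(grp M)} (hg : g ∈ Subgroup.closure (Set.range (nTri M) ∪ (hTri M : Set ↥(grp M)))) :
    ∃ e < twD4.elts.length, (wnu certD4C K (twD4.eword e))⁻¹ * (g : GL chevD4.Idx K) ∈ chevD4.diagonalSubgroup K := by
  have htab : ∀ e < 12, ∀ i : Fin 2, ∃ e' < 12, ∀ k < 4,
      wperm tblD4 (twD4.eword e') (tblD4.simp' k) = wperm tblD4 (wrd i ++ twD4.eword e) (tblD4.simp' k) := by
    decide +kernel
  have hlen : twD4.elts.length = 12 := rfl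
  have hmul : ∀ (i : Fin 2) (g : ↥(grp M)),
      (∃ e < twD4.elts.length, (wnu certD4C K (twD4.eword e))⁻¹ * (g : GL chevD4.Idx K) ∈ chevD4.diagonalSubgroup K) →
      ∃ e < twD4.elts.length, (wnu certD4C K (twD4.eword e))⁻¹ * ((nTri M i * g : ↥(grp M)) : GL chevD4.Idx K) ∈
        chevD4.diagonalSubgroup K := by
    rintro i g ⟨e, he, hd⟩
    obtain ⟨e', he', hp⟩ := htab e (hlen ▸ he) i
    refine ⟨e', hlen ▸ he', ?_⟩
    have h1 := same_of_perm certD4C fullCertD4 (F := K) (twCombD4.eword_word certD4C (hlen ▸ he'))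
      ((wrd_word i).append (twCombD4.eword_word certD4C he)) hp
    have := mul_mem h1 hd
    rw [wnu_append] at this
    rw [Subgroup.coe_mul, nTri_val]
    simpa [mul_assoc] using this
  have hH : ∀ (h g : ↥(grp M)), h ∈ hTri M →
      (∃ e < twD4.elts.length, (wnu certD4C K (twD4.eword e))⁻¹ * (g : GL chevD4.Idx K) ∈ chevD4.diagonalSubgroup K) →
      ∃ e < twD4.elts.length, (wnu certD4C K (twD4.eword e))⁻¹ * ((h * g : ↥(grp M)) : GL chevD4.Idx K) ∈
        chevD4.diagonalSubgroup K := by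
    rintro h g hh ⟨e, he, hd⟩
    refine ⟨e, he, ?_⟩
    have h1 := (conj_mem_diag certD4C (wnu_mem certD4C (twCombD4.eword_word certD4C he)) ((mem_hTri M).1 hh)).2
    have := mul_mem h1 hd
    rw [Subgroup.coe_mul]
    simpa [mul_assoc] using this
  induction hg using Subgroup.closure_induction_left with
  | one =>
    refine ⟨0, by rw [hlen]; norm_num, ?_⟩
    rw [show twD4.eword 0 = [] from rfl, OneMemClass.coe_one]
    simpa [wnu] using one_mem _
  | mul_left x hx y _ ih =>
    rcases hx with ⟨i, rfl⟩ | hx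
    · exact hmul i y ih
    · exact hH x y hx ih
  | inv_mul_cancel x hx y _ ih =>
    rcases hx with ⟨i, rfl⟩ | hx
    · rw [show (nTri M i)⁻¹ * y = (nTri M i * nTri M i)⁻¹ * (nTri M i * y) by group]
      exact hH _ _ (inv_mem (nTri_sq M i)) (hmul i y ih)
    · exact hH _ y (inv_mem hx) ih

theorem eword_sign : ∀ e < 12, ∀ i : Fin 2,
    (∀ r ∈ orbit (5 - i.val), wperm tblD4 (twD4.eword e) r ∈ below 6) ∨
    (∀ r ∈ orbit (5 - i.val), wperm tblD4 (twD4.eword e) (tblD4.neg r) ∈ below 6) := by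
  decide +kernel

theorem y_gl (i : Fin 2) {y : ↥(grp M)} (hy : y ∈ yTri M i) :
    (y : GL chevD4.Idx K) ∈ rootClosure certD4C K ((orbit (5 - i.val)).map tblD4.neg) := by
  obtain ⟨-, -, -, -, n18, n14, n13, n12⟩ := simp_roots
  have hle : yTri M i ≤ (rootClosure certD4C K ((orbit (5 - i.val)).map tblD4.neg)).subgroupOf (grp M) := by
    fin_cases i <;> refine (Subgroup.closure_le _).2 ?_ <;> rintro _ ⟨b, rfl⟩
    · show phiA M (SLTwoRel.lwr b) ∈ rootClosure certD4C K ((orbit 5).map tblD4.neg)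
      rw [phiA_lwr]
      refine mul_mem (mul_mem (xg_mem_rootClosure certD4C ?_ _) (xg_mem_rootClosure certD4C ?_ _))
        (xg_mem_rootClosure certD4C ?_ _) <;> simp [orbit, n18, n13, n12]
    · show phiB M (SLTwoRel.lwr b) ∈ rootClosure certD4C K ((orbit 4).map tblD4.neg)
      rw [phiB_lwr]
      exact xg_mem_rootClosure certD4C (by simp [orbit, n14]) _
  exact hle hy

theorem mono_closure {w : List ℕ} (hw : IsWord chevD4 w) {n : GL chevD4.Idx K}
    (hd : (wnu certD4C K w)⁻¹ * n ∈ chevD4.diagonalSubgroup K) {l m : List ℕ} (hl : ∀ r ∈ l, r < chevD4.nroots)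
    (hlm : ∀ r ∈ l, wperm tblD4 w r ∈ m) {g : GL chevD4.Idx K} (hg : g ∈ rootClosure certD4C K l) :
    n * g * n⁻¹ ∈ rootClosure certD4C K m := by
  have hle : rootClosure certD4C K l ≤ (rootClosure certD4C K m).comap (MulAut.conj n).toMonoidHom := by
    refine (Subgroup.closure_le _).2 ?_
    rintro _ ⟨r, hr, t, rfl⟩
    have h1 : xg certD4C r t ∈ Pset certD4C (F := K) [r] := ⟨fun _ => t, by simp [lprod]⟩
    obtain ⟨u, hu⟩ := (mono_conj_pset certD4C hw hd (fun x hx => by simp at hx; exact hx ▸ hl r hr)).1 h1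
    show n * xg certD4C r t * n⁻¹ ∈ rootClosure certD4C K m
    rw [hu]
    simp only [List.map_cons, List.map_nil, lprod, List.prod_cons, List.prod_nil, mul_one]
    exact xg_mem_rootClosure certD4C (hlm r hr) _
  exact hle hg

theorem below_six_pos {g : GL chevD4.Idx K} (hg : g ∈ rootClosure certD4C K (below 6)) : g ∈ chevD4.posUnipotent K := by
  refine (Subgroup.closure_le _).2 ?_ hg
  rintro _ ⟨r, hr, t, rfl⟩
  refine xg_mem_pos certD4C (lt24 (below_pos 6 le_rfl r hr).2) ?_ t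
  have := below_pos 6 le_rfl r hr
  rw [show chevD4.nroots = 24 from rfl]; omega

theorem tri_diag (a : K) (ha : a ≠ 0) (b : ↥(Fx M)) (hb : b ≠ 0) :
    phiA M (SLTwoRel.tri a 0 ha) ∈ chevD4.diagonalSubgroup K ∧ phiB M (SLTwoRel.tri b 0 hb) ∈ chevD4.diagonalSubgroup K := by
  rw [phiA_tri, phiB_tri]
  exact ⟨mul_mem (mul_mem (hg_mem certD4C (lt24 (by norm_num)) ha) (hg_mem certD4C (lt24 (by norm_num)) ((map_ne_zero M.f).2 ha)))
    (hg_mem certD4C (lt24 (by norm_num)) ((map_ne_zero M.f).2 ((map_ne_zero M.f).2 ha))),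
    hg_mem certD4C (lt24 (by norm_num)) (fun e => hb (Subtype.ext e))⟩

theorem wrd_ne : ∀ i : Fin 2, ∃ k < 4, wperm tblD4 [] (tblD4.simp' k) ≠ wperm tblD4 (wrd i) (tblD4.simp' k) := by
  decide +kernel

theorem form_diag (i : Fin 2) {x y d : GL chevD4.Idx K} (hx : x ∈ rootClosure certD4C K (below 6))
    (hy : y ∈ rootClosure certD4C K (below 6)) (hd : d ∈ chevD4.diagonalSubgroup K) :
    (x * d ∈ chevD4.diagonalSubgroup K → x = 1) ∧ x * d * wnu certD4C K (wrd i) * y ∉ chevD4.diagonalSubgroup K := by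
  have hxB : x ∈ chevD4.borelSubgroup K := Subgroup.mem_sup_left (below_six_pos hx)
  have hyB : y ∈ chevD4.borelSubgroup K := Subgroup.mem_sup_left (below_six_pos hy)
  refine ⟨fun h => ?_, fun h => ?_⟩
  · have : x ∈ chevD4.posUnipotent K ⊓ chevD4.diagonalSubgroup K :=
      Subgroup.mem_inf.2 ⟨below_six_pos hx, by simpa using mul_mem h (inv_mem hd)⟩
    rwa [pos_inf_diag certD4C, Subgroup.mem_bot] at this
  · have h1 : wnu certD4C K (wrd i) ∈ chevD4.borelSubgroup K ⊓ chevD4.monomialSubgroup K := by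
      refine Subgroup.mem_inf.2 ⟨?_, wnu_mem certD4C (wrd_word i)⟩
      rw [show wnu certD4C K (wrd i) = (x * d)⁻¹ * (x * d * wnu certD4C K (wrd i) * y) * y⁻¹ by group]
      exact mul_mem (mul_mem (inv_mem (mul_mem hxB (Subgroup.mem_sup_right hd))) (Subgroup.mem_sup_right h)) (inv_mem hyB)
    rw [borel_inf_monomial certD4C] at h1
    obtain ⟨k, hk, hne⟩ := wrd_ne i
    exact hne (perm_of_same certD4C (v := []) (w := wrd i) (fun x hx => absurd hx List.not_mem_nil) (wrd_word i)
      (by simpa [wnu] using h1) (certD4C.spec.simp_lt k hk))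

theorem xg_eq_scalar {r : ℕ} (h12 : 12 ≤ r) (hr : r < 24) {a b : K} (h : xg certD4C r a = xg certD4C r b) : a = b :=
  lprod_inj certD4C fullCertD4.comm (l := [r]) (t := fun _ => a) (u := fun _ => b) (List.nodup_singleton r)
    (fun x hx => by simp only [List.mem_singleton] at hx; subst hx; rw [show chevD4.nroots = 24 from rfl]; omega)
    (by simpa [lprod] using h) r (List.mem_singleton_self r)

theorem el5_mem (x : K) : phiA M (SLTwoRel.upr x) ∈ rootClosure certD4C K (below 6) := by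
  rw [phiA_upr]
  exact rootClosure_mono certD4C (vList_facts 0).2.2.2.2.2 (el_mem_closure M 5 (by norm_num) x)

theorem el4_mem (x : ↥(Fx M)) : phiB M (SLTwoRel.upr x) ∈ rootClosure certD4C K (below 6) := by
  rw [phiB_upr]
  exact xg_mem_rootClosure certD4C (by decide) _

theorem homA_diag {g : SL(2, K)} (h : phiA M g ∈ chevD4.diagonalSubgroup K) :
    ∃ a, ∃ ha : a ≠ 0, g = SLTwoRel.tri a 0 ha := by
  rcases sl_form g with ⟨x, a, ha, rfl⟩ | ⟨x, a, y, ha, rfl⟩
  · rw [map_mul] at h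
    have h1 := (form_diag 0 (el5_mem M x) (el5_mem M x) (tri_diag M a ha 1 one_ne_zero).1).1 h
    rw [phiA_upr] at h1
    have hx : x = 0 := by
      have h2 : lprod certD4C [18, 13, 12] (fun r => if r = 18 then x else if r = 13 then M.f x else M.f (M.f x)) =
          lprod certD4C [18, 13, 12] (fun _ => (0 : K)) := by
        rw [lprod_zero, ← h1]; simp [el, lprod, mul_assoc]
      simpa using lprod_inj certD4C fullCertD4.comm (by decide) (fun r hr => below_range (j := 6) le_rfl r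
        ((vList_facts 0).2.2.2.2.2 r hr)) h2 18 (by decide)
    refine ⟨a, ha, ?_⟩
    rw [hx]
    refine Subtype.ext ?_
    ext i j
    fin_cases i <;> fin_cases j <;> simp [SLTwoRel.coe_upr, SLTwoRel.coe_tri, Matrix.mul_apply, Fin.sum_univ_two]
  · exfalso
    rw [map_mul, map_mul, map_mul, phiA_rot] at h
    exact (form_diag 0 (el5_mem M x) (el5_mem M y) (tri_diag M a ha 1 one_ne_zero).1).2 h

theorem homB_diag {g : SL(2, ↥(Fx M))} (h : phiB M g ∈ chevD4.diagonalSubgroup K) :
    ∃ a, ∃ ha : a ≠ 0, g = SLTwoRel.tri a 0 ha := by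
  rcases sl_form g with ⟨x, a, ha, rfl⟩ | ⟨x, a, y, ha, rfl⟩
  · rw [map_mul] at h
    have h1 := (form_diag 1 (el4_mem M x) (el4_mem M x) (tri_diag M 1 one_ne_zero a ha).2).1 h
    rw [phiB_upr] at h1
    have hx : x = 0 := Subtype.ext (xg_eq_scalar (r := 14) (by norm_num) (by norm_num) (h1.trans (xg_zero certD4C 14).symm))
    refine ⟨a, ha, ?_⟩
    rw [hx]
    refine Subtype.ext ?_
    ext i j
    fin_cases i <;> fin_cases j <;> simp [SLTwoRel.coe_upr, SLTwoRel.coe_tri, Matrix.mul_apply, Fin.sum_univ_two]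
  · exfalso
    rw [map_mul, map_mul, map_mul, phiB_rot] at h
    exact (form_diag 1 (el4_mem M x) (el4_mem M y) (tri_diag M 1 one_ne_zero a ha).2).2 h

theorem homA_injective : Function.Injective (homA M) := by
  refine (injective_iff_map_eq_one _).2 fun g hg => ?_
  have hg' : phiA M g = 1 := congrArg Subtype.val hg
  obtain ⟨a, ha, rfl⟩ := homA_diag M (hg'.symm ▸ one_mem _)
  obtain ⟨c1, c2, -, -⟩ := tri_conj M a ha 1 one_ne_zero
  have h1 := c1 1
  have h2 := c2 1
  rw [hg'] at h1 h2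
  simp only [one_mul, inv_one, mul_one] at h1 h2
  have e1 : a ^ 2 = 1 := (xg_eq_scalar (r := 18) (by norm_num) (by norm_num) h1).symm
  have e2 : a * M.f a * M.f (M.f a) = 1 := inv_eq_one.1 (xg_eq_scalar (r := 14) (by norm_num) (by norm_num) h2).symm
  have ea : M.f a = a := by
    rcases sq_eq_one_iff.1 e1 with e | e <;> simp [e]
  rw [ea, ea, show a * a = a ^ 2 from (sq a).symm, e1, one_mul] at e2
  refine Subtype.ext ?_
  ext i j
  fin_cases i <;> fin_cases j <;> simp [SLTwoRel.coe_tri, e2]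

theorem homB_injective : Function.Injective (homB M) := by
  refine (injective_iff_map_eq_one _).2 fun g hg => ?_
  have hg' : phiB M g = 1 := congrArg Subtype.val hg
  obtain ⟨a, ha, rfl⟩ := homB_diag M (hg'.symm ▸ one_mem _)
  obtain ⟨-, -, c3, -⟩ := tri_conj M 1 one_ne_zero a ha
  have h1 := c3 1
  rw [hg'] at h1
  simp only [one_mul, inv_one, mul_one] at h1
  have e1 : a = 1 := Subtype.ext (inv_eq_one.1 (xg_eq_scalar (r := 18) (by norm_num) (by norm_num) h1).symm)
  refine Subtype.ext ?_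
  ext i j
  fin_cases i <;> fin_cases j <;> simp [SLTwoRel.coe_tri, e1]

theorem L_range (i : Fin 2) : Subgroup.closure ((xTri M i : Set ↥(grp M)) ∪ yTri M i) =
    if i = 0 then (homA M).range else (homB M).range := by
  have gen : ∀ {F : Type u} [Field F] (φ : SL(2, F) →* ↥(grp M)),
      Subgroup.closure ((Subgroup.closure (Set.range fun b => φ (SLTwoRel.upr b)) : Set ↥(grp M)) ∪
        Subgroup.closure (Set.range fun b => φ (SLTwoRel.lwr b))) = φ.range := by
    intro F _ φ
    refine le_antisymm ((Subgroup.closure_le _).2 (Set.union_subset ((Subgroup.closure_le _).2 ?_) ((Subgroup.closure_le _).2 ?_))) ?_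
    · rintro _ ⟨b, rfl⟩; exact ⟨_, rfl⟩
    · rintro _ ⟨b, rfl⟩; exact ⟨_, rfl⟩
    · rw [MonoidHom.range_eq_map, ← SLTwoRel.closure_eq_top, MonoidHom.map_closure, Subgroup.closure_le]
      have hu : ∀ b, φ (SLTwoRel.upr b) ∈ Subgroup.closure ((Subgroup.closure (Set.range fun b => φ (SLTwoRel.upr b)) : Set ↥(grp M)) ∪
          Subgroup.closure (Set.range fun b => φ (SLTwoRel.lwr b))) := fun b =>
        Subgroup.subset_closure (Or.inl (Subgroup.subset_closure ⟨b, rfl⟩))
      rintro _ ⟨g, ⟨b, rfl⟩ | rfl, rfl⟩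
      · exact hu b
      · rw [rot_eq, map_mul, map_mul]
        exact mul_mem (mul_mem (hu _) (Subgroup.subset_closure (Or.inr (Subgroup.subset_closure ⟨_, rfl⟩)))) (hu _)
  fin_cases i
  · exact gen (homA M)
  · exact gen (homB M)

theorem pow_word (k : ℕ) : ((nTri M 0 * nTri M 1) ^ k : ↥(grp M)).1 =
    wnu certD4C K (List.replicate k (wrd 0 ++ wrd 1)).flatten := by
  induction k with
  | zero => simp [wnu]
  | succ k ih =>
    rw [pow_succ', Subgroup.coe_mul, ih, Subgroup.coe_mul, nTri_val, nTri_val, List.replicate_succ, List.flatten_cons,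
      wnu_append, wnu_append]

theorem rep_word (k : ℕ) : IsWord chevD4 (List.replicate k (wrd 0 ++ wrd 1)).flatten := fun x hx => by
  obtain ⟨l, hl, hxl⟩ := List.mem_flatten.1 hx
  exact ((wrd_word 0).append (wrd_word 1)) x (List.eq_of_mem_replicate hl ▸ hxl)

theorem wperm_mod : ∀ k, ∀ r < 24, wperm tblD4 (List.replicate k (wrd 0 ++ wrd 1)).flatten r =
    wperm tblD4 (List.replicate (k % 6) (wrd 0 ++ wrd 1)).flatten r := by
  have h6 : ∀ r < 24, wperm tblD4 (List.replicate 6 (wrd 0 ++ wrd 1)).flatten r = r := by decide +kernel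
  intro k r hr
  induction k using Nat.strong_induction_on with
  | _ k ih =>
    rcases lt_or_ge k 6 with h | h
    · rw [Nat.mod_eq_of_lt h]
    · obtain ⟨m, rfl⟩ : ∃ m, k = 6 + m := ⟨k - 6, by omega⟩
      rw [List.replicate_add, List.flatten_append, wperm_append, h6 _ (wperm_lt certD4C (rep_word m) (lt24 hr)),
        ih m (by omega), Nat.add_mod_left]

theorem pow_facts (k : ℕ) :
    ((nTri M 0 * nTri M 1) ^ k ∈ hTri M → 6 ∣ k) ∧ (nTri M 0 * nTri M 1) ^ k * nTri M 0 ∉ hTri M := by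
  have htab : ∀ r < 6, (r = 0 ∨ ∃ j < 4, wperm tblD4 [] (tblD4.simp' j) ≠
      wperm tblD4 (List.replicate r (wrd 0 ++ wrd 1)).flatten (tblD4.simp' j)) ∧
      ∃ j < 4, wperm tblD4 [] (tblD4.simp' j) ≠
        wperm tblD4 (List.replicate r (wrd 0 ++ wrd 1)).flatten (wperm tblD4 (wrd 0) (tblD4.simp' j)) := by decide +kernel
  obtain ⟨h1, h2⟩ := htab (k % 6) (Nat.mod_lt _ (by norm_num))
  refine ⟨fun h => ?_, fun h => ?_⟩
  · rcases h1 with h1 | ⟨j, hj, hne⟩
    · exact Nat.dvd_of_mod_eq_zero h1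
    · rw [mem_hTri, pow_word] at h
      exfalso
      apply hne
      rw [← wperm_mod k _ (certD4C.spec.simp_lt j hj)]
      exact perm_of_same certD4C (v := []) (fun x hx => absurd hx List.not_mem_nil) (rep_word k)
        (by simpa [wnu] using h) (certD4C.spec.simp_lt j hj)
  · obtain ⟨j, hj, hne⟩ := h2
    rw [mem_hTri, Subgroup.coe_mul, pow_word, nTri_val, ← wnu_append] at h
    apply hne
    have e := perm_of_same certD4C (v := []) (fun x hx => absurd hx List.not_mem_nil)
      ((rep_word k).append (wrd_word 0)) (by simpa [wnu] using h) (certD4C.spec.simp_lt j hj)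
    rw [wperm_append, wperm_mod k _ (wperm_lt certD4C (wrd_word 0) (certD4C.spec.simp_lt j hj))] at e
    exact e

/-- The braid element. -/
noncomputable def gB : ↥(grp M) := (nTri M 0 * nTri M 1) ^ 2 * nTri M 0

/-- Its word. -/
def gW : List ℕ := (List.replicate 2 (wrd 0 ++ wrd 1)).flatten ++ wrd 0

theorem gB_val : (gB M : GL chevD4.Idx K) = wnu certD4C K gW := by
  rw [gB, Subgroup.coe_mul, pow_word, nTri_val, gW, wnu_append]

theorem gW_word : IsWord chevD4 gW := (rep_word 2).append (wrd_word 0)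

theorem gB_braid : gB M * nTri M 1 * (gB M)⁻¹ * (nTri M 1)⁻¹ ∈ hTri M := by
  have hd := same_of_perm certD4C fullCertD4 (F := K) ((wrd_word 1).append gW_word) (gW_word.append (wrd_word 1))
    (by decide +kernel)
  have hm : wnu certD4C K (wrd 1 ++ gW) ∈ chevD4.monomialSubgroup K := wnu_mem certD4C ((wrd_word 1).append gW_word)
  have h2 := (conj_mem_diag certD4C hm hd).1
  rw [mem_hTri]
  simp only [Subgroup.coe_mul, InvMemClass.coe_inv, gB_val, nTri_val]
  rw [wnu_append, wnu_append] at h2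
  simpa [mul_assoc, _root_.mul_inv_rev] using h2

theorem gB_x {x : ↥(grp M)} (hx : x ∈ xTri M 1) : gB M * x * (gB M)⁻¹ ∈ xTri M 1 := by
  obtain ⟨v, rfl⟩ := (mem_xTri M).1 hx
  show gB M * X M 4 v * (gB M)⁻¹ ∈ xTri M 1
  obtain ⟨t, ht, -⟩ := el_lprod M 4 (by norm_num) v
  have hfix14 : ([14] : List ℕ).map (wperm tblD4 gW) = [14] := by decide +kernel
  have h1 := (mono_conj_pset certD4C (F := K) gW_word (n := wnu certD4C K gW) (by rw [inv_mul_cancel]; exact one_mem _)
    (l := [14]) (g := el M 4 v) (fun r hr => lt24 (by simp at hr; omega))).1 ⟨t, ht⟩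
  rw [hfix14] at h1
  obtain ⟨w, hw⟩ := pset_orbit M (j := 4) (by norm_num) (g := wnu certD4C K gW * el M 4 v * (wnu certD4C K gW)⁻¹)
    h1 (by
      have := (gB M * X M 4 v * (gB M)⁻¹).2.2
      simpa only [Subgroup.coe_mul, InvMemClass.coe_inv, gB_val, X_val M (show 4 < 6 by norm_num)] using this)
  refine (mem_xTri M).2 ⟨w, Subtype.ext ?_⟩
  show _ = ((X M 4 w : ↥(grp M)) : GL chevD4.Idx K)
  simp only [Subgroup.coe_mul, InvMemClass.coe_inv, gB_val, X_val M (show 4 < 6 by norm_num)]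
  exact hw

theorem gB_y {y : ↥(grp M)} (hy : y ∈ yTri M 1) : gB M * y * (gB M)⁻¹ ∈ yTri M 1 := by
  rw [yTri_map] at hy
  obtain ⟨x, hx, rfl⟩ := hy
  show gB M * (nTri M 1 * x * (nTri M 1)⁻¹) * (gB M)⁻¹ ∈ yTri M 1
  have h1 : nTri M 1 * (gB M * x * (gB M)⁻¹) * (nTri M 1)⁻¹ ∈ yTri M 1 := by
    rw [yTri_map]; exact ⟨_, gB_x M hx, rfl⟩
  have := conj_y M 1 (gB_braid M) h1
  convert this using 1
  group

theorem card_uTri : Nat.card ↥(uTri M) = M.q ^ 12 := by
  rw [uTri_eq]; exact card_span M 6 le_rfl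

theorem gen_top : Subgroup.closure ((uTri M : Set ↥(grp M)) ∪ Set.range (nTri M)) = ⊤ := by
  obtain ⟨-, -, -, -, n18, n14, n13, n12⟩ := simp_roots
  have hclo := twSimplyD4.fixed_eq_closure certD4C symOKD4_tri M.f fullCertD4 twCombD4 twLinkedD4
    (fun c => hZD4 (f := M.f) (fun t => M.cube t) c)
  rw [eq_top_iff]
  rintro g -
  have hle : grp M ≤ (Subgroup.closure ((uTri M : Set ↥(grp M)) ∪ Set.range (nTri M))).map (grp M).subtype := by
    show (ok M).fixed certD4C ≤ _
    rw [hclo, Subgroup.closure_le]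
    have huX : ∀ j < 6, ∀ v, X M j v ∈ uTri M := fun j hj v => by
      rw [uTri_eq]; exact mem_spanBelow hj v
    rintro g ⟨J, hJ, v, hv, hg⟩
    have hJ2 : J = 0 ∨ J = 1 := by have : J < 2 := hJ; omega
    rcases hJ2 with rfl | rfl
    · have b0 : twD4.base 0 = [18, 13, 12] := rfl
      rcases hg with rfl | rfl
      · refine ⟨X M 5 v, Subgroup.subset_closure (Or.inl (huX 5 (by norm_num) v)), ?_⟩
        show (X M 5 v : GL chevD4.Idx K) = _
        rw [X_val M (by norm_num), b0]; simp [orbEl, el, mul_assoc]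
      · refine ⟨nTri M 0 * X M 5 (-v) * (nTri M 0)⁻¹, mul_mem (mul_mem (Subgroup.subset_closure (Or.inr ⟨0, rfl⟩))
          (Subgroup.subset_closure (Or.inl (huX 5 (by norm_num) (-v))))) (inv_mem (Subgroup.subset_closure (Or.inr ⟨0, rfl⟩))), ?_⟩
        rw [b0, ← homA_upr M (-v), show nTri M 0 = homA M SLTwoRel.rot from rfl, ← map_inv, ← map_mul, ← map_mul,
          (lwr_upr_conj (-v)).1, neg_neg]
        show phiA M (SLTwoRel.lwr v) = _
        simp [phiA_lwr, orbEl, n18, n13, n12, mul_assoc]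
    · have b1 : twD4.base 1 = [14] := rfl
      have hv' : M.f v = v := hv
      rcases hg with rfl | rfl
      · obtain ⟨w, hw⟩ := tr_surj M hv'
        refine ⟨X M 4 w, Subgroup.subset_closure (Or.inl (huX 4 (by norm_num) w)), ?_⟩
        show (X M 4 w : GL chevD4.Idx K) = _
        rw [X_val M (by norm_num), b1]; simp [orbEl, el, hw]
      · obtain ⟨w, hw⟩ := tr_surj M (c := -v) (by rw [map_neg, hv'])
        refine ⟨nTri M 1 * X M 4 w * (nTri M 1)⁻¹, mul_mem (mul_mem (Subgroup.subset_closure (Or.inr ⟨1, rfl⟩))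
          (Subgroup.subset_closure (Or.inl (huX 4 (by norm_num) w)))) (inv_mem (Subgroup.subset_closure (Or.inr ⟨1, rfl⟩))), ?_⟩
        rw [b1, homB_upr, show nTri M 1 = homB M SLTwoRel.rot from rfl, ← map_inv, ← map_mul, ← map_mul,
          (lwr_upr_conj _).1]
        show phiB M (SLTwoRel.lwr _) = _
        rw [phiB_lwr]
        simp [orbEl, n14, hw]
  obtain ⟨g', hg', e⟩ := hle g.2
  rwa [show g = g' from Subtype.ext e.symm]

/-- The rank two structure. -/
noncomputable def rankTwo (p : ℕ) [Fact p.Prime] [CharP K p] : RankTwo p ↥(grp M) where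
  U := uTri M
  H := hTri M
  X := xTri M
  Y := yTri M
  V := vTri M
  n := nTri M
  half := 2
  pgroup := by
    obtain ⟨n, -, hn⟩ := FiniteField.card K p
    obtain ⟨k, hk⟩ : ∃ k, M.q = p ^ k := ((Nat.dvd_prime_pow (Fact.out : p.Prime)).1
      (by rw [← hn, M.hK]; exact dvd_pow_self _ (by norm_num))).imp fun k h => h.2
    exact IsPGroup.of_card (n := k * 12) (by rw [card_uTri, hk, ← pow_mul])
  conj_U := fun h hh u hu => by
    obtain ⟨c, hc⟩ : ∃ c, torusHom chevD4 tblD4 K c = (h : GL chevD4.Idx K) := by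
      have := (mem_hTri M).1 hh; rwa [← torusHom_range certD4C] at this
    have hle : rootClosure certD4C K (below 6) ≤
        (rootClosure certD4C K (below 6)).comap (MulAut.conj (h : GL chevD4.Idx K)).toMonoidHom := by
      refine (Subgroup.closure_le _).2 ?_
      rintro _ ⟨r, hr, t, rfl⟩
      show (h : GL chevD4.Idx K) * xg certD4C r t * (h : GL chevD4.Idx K)⁻¹ ∈ rootClosure certD4C K (below 6)
      rw [← hc, torusHom_conj_xg certD4C c (below_lt le_rfl r hr)]
      exact xg_mem_rootClosure certD4C hr _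
    exact hle hu
  conj_X := fun i h hh x hx => conj_x M i hh hx
  conj_Y := fun i h hh y hy => conj_y M i hh hy
  X_le := fun i g hg => by
    obtain ⟨v, rfl⟩ := (mem_xTri M).1 hg
    rw [uTri_eq]; exact mem_spanBelow (by omega) v
  V_le := fun i g hg => rootClosure_mono certD4C (vList_facts i).2.2.2.2.1 hg
  n_X := fun i x hx => by rw [yTri_map]; exact ⟨x, hx, rfl⟩
  n_Y := fun i y hy => by
    rw [yTri_map] at hy
    obtain ⟨x, hx, rfl⟩ := hy
    show nTri M i * (nTri M i * x * (nTri M i)⁻¹) * (nTri M i)⁻¹ ∈ xTri M i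
    rw [show nTri M i * (nTri M i * x * (nTri M i)⁻¹) * (nTri M i)⁻¹ =
      (nTri M i * nTri M i) * x * (nTri M i * nTri M i)⁻¹ by group]
    exact conj_x M i (nTri_sq M i) hx
  n_V := fun i v hv => by
    show ((nTri M i * v * (nTri M i)⁻¹ : ↥(grp M)) : GL chevD4.Idx K) ∈ rootClosure certD4C K (vList i)
    simp only [Subgroup.coe_mul, InvMemClass.coe_inv, nTri_val]
    exact mono_closure (wrd_word i) (by rw [inv_mul_cancel]; exact one_mem _) (fun r hr => lt24 ((vList_facts i).1 r hr))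
      (vList_facts i).2.2.1 hv
  n_H := fun i h hh => nTri_conj_H M i hh
  n_sq := nTri_sq M
  n_mem := fun i => by
    rw [L_range]
    fin_cases i <;> exact ⟨SLTwoRel.rot, rfl⟩
  split_U := fun i u hu => split_u M i hu
  dec := fun i y hy => by
    have gen : ∀ {F : Type u} [Field F] (φ : SL(2, F) →* ↥(grp M)),
        (∀ a (ha : a ≠ 0), φ (SLTwoRel.tri a 0 ha) ∈ hTri M) → y ∈ Subgroup.closure (Set.range fun b => φ (SLTwoRel.lwr b)) →
        ∃ x₁ ∈ Subgroup.closure (Set.range fun b => φ (SLTwoRel.upr b)), ∃ h ∈ hTri M, (y = x₁ * h) ∨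
          ∃ x₂ ∈ Subgroup.closure (Set.range fun b => φ (SLTwoRel.upr b)), y = x₁ * h * φ SLTwoRel.rot * x₂ := by
      intro F _ φ hφ hy
      obtain ⟨b, rfl⟩ : ∃ b, φ (SLTwoRel.lwr b) = y := by
        let ψ : Multiplicative F →* ↥(grp M) := MonoidHom.mk' (fun a => φ (SLTwoRel.lwr a.toAdd)) fun a b => by
          rw [← map_mul]
          congr 1
          refine Subtype.ext ?_
          ext i j
          fin_cases i <;> fin_cases j <;> simp [coe_lwr, Matrix.mul_apply, Fin.sum_univ_two]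
        obtain ⟨a, rfl⟩ := (Subgroup.closure_le ψ.range).2 (by rintro _ ⟨v, rfl⟩; exact ⟨Multiplicative.ofAdd v, rfl⟩) hy
        exact ⟨a.toAdd, rfl⟩
      rcases eq_or_ne b 0 with rfl | hb
      · refine ⟨1, one_mem _, 1, one_mem _, Or.inl ?_⟩
        rw [show SLTwoRel.lwr (0 : F) = 1 from Subtype.ext (by
          ext i j; fin_cases i <;> fin_cases j <;> simp [coe_lwr]), map_one, one_mul]
      · refine ⟨_, Subgroup.subset_closure ⟨b⁻¹, rfl⟩, _, hφ _ (neg_ne_zero.2 (inv_ne_zero hb)), Or.inr ⟨_,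
          Subgroup.subset_closure ⟨b⁻¹, rfl⟩, ?_⟩⟩
        rw [← map_mul, ← map_mul, ← map_mul, ← lwr_dec hb]
    fin_cases i
    · exact gen (homA M) (fun a ha => (tri_diag M a ha 1 one_ne_zero).1) hy
    · exact gen (homB M) (fun a ha => (tri_diag M 1 one_ne_zero a ha).2) hy
  dich := fun g hg i => by
    obtain ⟨e, he, hd⟩ := monomial_form M (inv_mem hg)
    have hw := twCombD4.eword_word certD4C he
    have hjl : 5 - i.val < 6 := by omega
    rcases eword_sign e he i with h | h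
    · refine Or.inl fun x hx => ?_
      obtain ⟨v, rfl⟩ := (mem_xTri M).1 hx
      show ((g⁻¹ * X M (5 - i.val) v * g : ↥(grp M)) : GL chevD4.Idx K) ∈ rootClosure certD4C K (below 6)
      simp only [Subgroup.coe_mul, InvMemClass.coe_inv, X_val M hjl]
      have := mono_closure hw hd (orbit_lt hjl) h (el_mem_closure M _ hjl v)
      simpa using this
    · refine Or.inr fun y hy => ?_
      show ((g⁻¹ * y * g : ↥(grp M)) : GL chevD4.Idx K) ∈ rootClosure certD4C K (below 6)
      simp only [Subgroup.coe_mul, InvMemClass.coe_inv]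
      have hl : ∀ r ∈ (orbit (5 - i.val)).map tblD4.neg, r < chevD4.nroots := fun r hr => by
        obtain ⟨s, hs, rfl⟩ := List.mem_map.1 hr
        exact certD4C.spec.neg_lt s (orbit_lt hjl s hs)
      have := mono_closure hw hd hl (fun r hr => by
        obtain ⟨s, hs, rfl⟩ := List.mem_map.1 hr
        exact h s hs) (y_gl M i hy)
      simpa using this
  H_meet := fun h hh h0 h1 => by
    rw [L_range] at h0 h1
    obtain ⟨ga, hga⟩ := (show h ∈ (homA M).range from h0)
    obtain ⟨gb, hgb⟩ := (show h ∈ (homB M).range from h1)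
    have hea : phiA M ga = (h : GL chevD4.Idx K) := congrArg Subtype.val hga
    have heb : phiB M gb = (h : GL chevD4.Idx K) := congrArg Subtype.val hgb
    obtain ⟨a, ha, rfl⟩ := homA_diag M (by rw [hea]; exact hh)
    obtain ⟨b, hb, rfl⟩ := homB_diag M (by rw [heb]; exact hh)
    obtain ⟨c1, c2, c3, c4⟩ := tri_conj M a ha b hb
    rw [hea.trans heb.symm] at c1 c2
    have k1 := (c1 1).symm.trans (c3 1)
    have k2 := (c2 1).symm.trans (c4 1)
    simp only [mul_one] at k1 k2
    have e1 : a ^ 2 = (b : K)⁻¹ := xg_eq_scalar (r := 18) (by norm_num) (by norm_num) k1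
    have e2 : (a * M.f a * M.f (M.f a))⁻¹ = (b : K) ^ 2 := xg_eq_scalar (r := 14) (by norm_num) (by norm_num) k2
    have hfx : M.f (a ^ 2) = a ^ 2 := by rw [e1, map_inv₀, (b.2 : M.f (b : K) = b)]
    have hfa : M.f a = a := by
      rw [map_pow] at hfx
      rcases eq_or_eq_neg_of_sq_eq_sq _ _ hfx with e | e
      · exact e
      · have h3 := M.cube a
        rw [e, map_neg, e, neg_neg, e] at h3
        rw [e]; exact h3
    rw [hfa, hfa, inv_eq_iff_eq_inv, ← inv_pow, ← e1] at e2
    have h3 : a * a * a ≠ 0 := mul_ne_zero (mul_ne_zero ha ha) ha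
    have ha1 : a = 1 := mul_left_cancel₀ h3 (by linear_combination -e2)
    have hb1 : b = 1 := Subtype.ext (inv_eq_one.1 (e1.symm.trans (by rw [ha1, one_pow])))
    refine Subtype.ext ?_
    rw [← heb]
    have : SLTwoRel.tri b 0 hb = 1 := by
      refine Subtype.ext ?_
      ext i j
      fin_cases i <;> fin_cases j <;> simp [SLTwoRel.coe_tri, hb1]
    rw [this, map_one]; rfl
  H_comm := fun a ha b hb => Subtype.ext (diag_comm certD4C ha hb)
  N_meet := fun g hg hU => by
    obtain ⟨e, he, hd⟩ := monomial_form M hg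
    have hmono : (g : GL chevD4.Idx K) ∈ chevD4.monomialSubgroup K := by
      have := mul_mem (wnu_mem certD4C (F := K) (twCombD4.eword_word certD4C he)) (diag_le_monomial certD4C hd)
      rwa [mul_inv_cancel_left] at this
    have h1 : (g : GL chevD4.Idx K) ∈ chevD4.diagonalSubgroup K := by
      rw [← borel_inf_monomial certD4C]
      exact ⟨Subgroup.mem_sup_left (below_six_pos hU), hmono⟩
    have h2 : (g : GL chevD4.Idx K) ∈ chevD4.posUnipotent K ⊓ chevD4.diagonalSubgroup K := ⟨below_six_pos hU, h1⟩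
    rw [pos_inf_diag certD4C, Subgroup.mem_bot] at h2
    exact Subtype.ext h2
  word := fun k h => (pow_facts M k).1 h
  word_odd := fun k => (pow_facts M k).2
  braid_X := fun x hx => gB_x M hx
  braid_Y := fun y hy => gB_y M hy
  braid := gB_braid M
  gen := gen_top M

/-- No stem extension with kernel of order prime to the characteristic. -/
theorem cross_part {p r : ℕ} [hp : Fact p.Prime] [CharP K p] (hr : r.Prime) (hrp : r ≠ p) {Γ : Type u} [Group Γ]
    [Finite Γ] (σ : Γ →* ↥(grp M)) (hs : Function.Surjective σ) (hc : σ.ker ≤ Subgroup.center Γ)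
    (hcard : Nat.card σ.ker = r) : ¬ σ.ker ≤ commutator Γ := by
  refine (rankTwo M p).not_le hs hc hr hrp hcard fun i => ?_
  haveI : Fintype ↥(Fx M) := Fintype.ofFinite _
  haveI : CharP ↥(Fx M) p := (Fx M).subtype.charP (Subtype.val_injective) p
  fin_cases i
  · exact (rankTwo M p).liftL_meet hs hc hr hrp hcard (i := 0)
      ((MulEquiv.subgroupCongr (L_range M 0)).trans (MonoidHom.ofInjective (homA_injective M)).symm)
      (noStem_sl_two (p := p) hr hrp)
  · exact (rankTwo M p).liftL_meet hs hc hr hrp hcard (i := 1)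
      ((MulEquiv.subgroupCongr (L_range M 1)).trans (MonoidHom.ofInjective (homB_injective M)).symm)
      (noStem_sl_two (p := p) hr hrp)

end Cfsg.Lib.Chev.TwMult.Tri
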