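import Cfsg.Agent.Lib.Chev.TwMult.Triality.Roots
import Cfsg.Agent.Lib.Chev.SLTwo
import Cfsg.Agent.Lib.Chev.TwPerfect

/-!
The two rank one subgroups of ³D₄(q) as images of `SL(2, q³)` and `SL(2, q)`.
-/

set_option autoImplicit false
set_option linter.unusedSectionVars false
set_option maxRecDepth 100000

namespace Cfsg.Lib.Chev.TwMult.Tri

open Cfsg.Lie Cfsg.Lib.Chev.TwMult
open scoped MatrixGroups

variable {K : Type*} [Field K] [Fintype K] (M : Frame K)

theorem simp_roots : tblD4.simp' 0 = 18 ∧ tblD4.simp' 1 = 14 ∧ tblD4.simp' 2 = 13 ∧ tblD4.simp' 3 = 12 ∧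
    tblD4.neg 18 = 5 ∧ tblD4.neg 14 = 9 ∧ tblD4.neg 13 = 10 ∧ tblD4.neg 12 = 11 := by decide +kernel

/-- The homomorphism of a root. -/
noncomputable def rhom (r : ℕ) (hr : r < 24) : SL(2, K) →* GL chevD4.Idx K :=
  (rootRel (F := K) certD4C (lt24 hr)).hom

theorem rhom_upr (r : ℕ) (hr : r < 24) (b : K) : rhom r hr (SLTwoRel.upr b) = xg certD4C r b :=
  (rootRel (F := K) certD4C (lt24 hr)).toFun'_upr b

theorem rhom_lwr (r : ℕ) (hr : r < 24) (b : K) : rhom r hr (SLTwoRel.lwr b) = xg certD4C (tblD4.neg r) b :=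
  (rootRel (F := K) certD4C (lt24 hr)).toFun'_lwr b

theorem rhom_rot (r : ℕ) (hr : r < 24) : rhom (K := K) r hr SLTwoRel.rot = ng certD4C r 1 :=
  (rootRel (F := K) certD4C (lt24 hr)).toFun'_rot

theorem rhom_tri (r : ℕ) (hr : r < 24) (a : K) (ha : a ≠ 0) :
    rhom r hr (SLTwoRel.tri a 0 ha) = hg certD4C r a := by
  show (rootRel (F := K) certD4C (lt24 hr)).toFun' _ = _
  simp [SLTwoRel.toFun', SLTwoRel.coe_tri, rootRel, xg_zero]

theorem rhom_mem (r : ℕ) (hr : r < 24) (g : SL(2, K)) :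
    rhom r hr g ∈ rootClosure certD4C K [r, tblD4.neg r] := by
  have h : rhom r hr g ∈ (rootRel (F := K) certD4C (lt24 hr)).hom.range := ⟨g, rfl⟩
  rw [SLTwoRel.hom_range] at h
  refine (Subgroup.closure_le _).2 ?_ h
  rintro _ (⟨t, rfl⟩ | ⟨t, rfl⟩)
  · exact xg_mem_rootClosure certD4C (List.mem_cons_self ..) t
  · exact xg_mem_rootClosure certD4C (l := [r, tblD4.neg r]) (by simp) t

theorem rhom_commute {r s : ℕ} (hr : r < 24) (hs : s < 24)
    (hchk : chkTerms tblD4 [r, tblD4.neg r] [s, tblD4.neg s] [] = true) (hn : tblD4.neg r < 24 ∧ tblD4.neg s < 24)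
    (g h : SL(2, K)) : Commute (rhom r hr g) (rhom s hs h) := by
  have hlt : ∀ a, a < 24 → tblD4.neg a < 24 → ∀ x ∈ [a, tblD4.neg a], x < chevD4.nroots := by
    intro a ha ha' x hx
    simp only [List.mem_cons, List.not_mem_nil, or_false] at hx
    rcases hx with rfl | rfl
    exacts [lt24 ha, lt24 ha']
  have hbot : rootClosure certD4C K ([] : List ℕ) = ⊥ := by
    rw [rootClosure, show {g : GL chevD4.Idx K | ∃ r ∈ ([] : List ℕ), ∃ t : K, g = xg certD4C r t} = ∅ from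
      Set.eq_empty_iff_forall_notMem.2 fun g ⟨r, hr, _⟩ => absurd hr List.not_mem_nil, Subgroup.closure_empty]
  have h0 : ∀ A : List ℕ, chkTerms tblD4 A [] [] = true := fun A => by simp [chkTerms]
  have := rootClosure_comm certD4C fullCertD4.comm hchk (h0 _) (h0 _) (hlt r hr hn.1) (hlt s hs hn.2)
    (fun x hx => absurd hx List.not_mem_nil) (rhom_mem r hr g) (rhom_mem s hs h)
  rw [hbot, Subgroup.mem_bot] at this
  exact commutatorElement_eq_one_iff_mul_comm.1 this

theorem chk_levi : chkTerms tblD4 [18, tblD4.neg 18] [13, tblD4.neg 13] [] = true ∧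
    chkTerms tblD4 [18, tblD4.neg 18] [12, tblD4.neg 12] [] = true ∧
    chkTerms tblD4 [13, tblD4.neg 13] [12, tblD4.neg 12] [] = true := by decide +kernel

/-- The map on matrices of the field endomorphism. -/
noncomputable def fSL : SL(2, K) →* SL(2, K) := Matrix.SpecialLinearGroup.map M.f

/-- The short rank one homomorphism. -/
noncomputable def phiA : SL(2, K) →* GL chevD4.Idx K :=
  MonoidHom.mk' (fun g => rhom 18 (by norm_num) g * rhom 13 (by norm_num) (fSL M g) *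
      rhom 12 (by norm_num) (fSL M (fSL M g))) fun a b => by
    obtain ⟨c1, c2, c3⟩ := chk_levi
    have hn := simp_roots
    have h1 := rhom_commute (K := K) (show 18 < 24 by norm_num) (show 13 < 24 by norm_num) c1 (by omega)
    have h2 := rhom_commute (K := K) (show 18 < 24 by norm_num) (show 12 < 24 by norm_num) c2 (by omega)
    have h3 := rhom_commute (K := K) (show 13 < 24 by norm_num) (show 12 < 24 by norm_num) c3 (by omega)
    simp only [map_mul]
    set A := rhom (K := K) 18 (by norm_num : 18 < 24)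
    set B := rhom (K := K) 13 (by norm_num : 13 < 24)
    set C := rhom (K := K) 12 (by norm_num : 12 < 24)
    calc _ = A a * ((A b) * B (fSL M a)) * (B (fSL M b) * C (fSL M (fSL M a))) * C (fSL M (fSL M b)) := by group
      _ = A a * B (fSL M a) * (A b * C (fSL M (fSL M a)) * B (fSL M b)) * C (fSL M (fSL M b)) := by
        rw [(h1 b (fSL M a)).eq, (h3 (fSL M b) (fSL M (fSL M a))).eq]; group
      _ = _ := by rw [(h2 b (fSL M (fSL M a))).eq]; group

theorem fSL_upr (b : K) : fSL M (SLTwoRel.upr b) = SLTwoRel.upr (M.f b) := by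
  refine Subtype.ext ?_
  ext i j
  fin_cases i <;> fin_cases j <;> simp [fSL, SLTwoRel.coe_upr]

theorem coe_lwr {F : Type*} [Field F] (b : F) :
    ((SLTwoRel.lwr b : SL(2, F)) : Matrix (Fin 2) (Fin 2) F) = !![1, 0; b, 1] := rfl

theorem fSL_lwr (b : K) : fSL M (SLTwoRel.lwr b) = SLTwoRel.lwr (M.f b) := by
  refine Subtype.ext ?_
  ext i j
  fin_cases i <;> fin_cases j <;> simp [fSL, coe_lwr]

theorem fSL_rot : fSL M SLTwoRel.rot = (SLTwoRel.rot : SL(2, K)) := by
  refine Subtype.ext ?_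
  ext i j
  fin_cases i <;> fin_cases j <;> simp [fSL, SLTwoRel.coe_rot]

theorem fSL_tri (a : K) (ha : a ≠ 0) : fSL M (SLTwoRel.tri a 0 ha) = SLTwoRel.tri (M.f a) 0 ((map_ne_zero M.f).2 ha) := by
  refine Subtype.ext ?_
  ext i j
  fin_cases i <;> fin_cases j <;> simp [fSL, SLTwoRel.coe_tri, map_inv₀]

theorem phiA_upr (b : K) : phiA M (SLTwoRel.upr b) = el M 5 b := by
  simp only [phiA, MonoidHom.mk'_apply, fSL_upr, rhom_upr, el]

theorem phiA_lwr (b : K) :
    phiA M (SLTwoRel.lwr b) = xg certD4C 5 b * xg certD4C 10 (M.f b) * xg certD4C 11 (M.f (M.f b)) := by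
  obtain ⟨-, -, -, -, n18, -, n13, n12⟩ := simp_roots
  simp only [phiA, MonoidHom.mk'_apply, fSL_lwr, rhom_lwr, n18, n13, n12]

theorem wnu_short : wnu certD4C K [0, 2, 3] = ng certD4C 18 1 * ng certD4C 13 1 * ng certD4C 12 1 := by
  obtain ⟨s0, -, s2, s3, -⟩ := simp_roots
  simp [wnu, nu, s0, s2, s3, mul_assoc]

theorem wnu_one : wnu certD4C K [1] = ng certD4C 14 1 := by
  obtain ⟨-, s1, -⟩ := simp_roots
  simp [wnu, nu, s1]

theorem phiA_rot : phiA M SLTwoRel.rot = wnu certD4C K [0, 2, 3] := by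
  simp only [phiA, MonoidHom.mk'_apply, fSL_rot, rhom_rot, wnu_short]

theorem phiA_tri (a : K) (ha : a ≠ 0) : phiA M (SLTwoRel.tri a 0 ha) =
    hg certD4C 18 a * hg certD4C 13 (M.f a) * hg certD4C 12 (M.f (M.f a)) := by
  simp only [phiA, MonoidHom.mk'_apply, fSL_tri, rhom_tri]

/-- The fixed field. -/
def Fx : Subfield K where
  carrier := {t | M.f t = t}
  mul_mem' {a b} ha hb := by show M.f (a * b) = a * b; rw [map_mul, ha, hb]
  one_mem' := map_one M.f
  add_mem' {a b} ha hb := by show M.f (a + b) = a + b; rw [map_add, ha, hb]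
  zero_mem' := map_zero M.f
  neg_mem' {a} ha := by show M.f (-a) = -a; rw [map_neg, ha]
  inv_mem' a ha := by show M.f a⁻¹ = a⁻¹; rw [map_inv₀, ha]

/-- The long rank one homomorphism. -/
noncomputable def phiB : SL(2, ↥(Fx M)) →* GL chevD4.Idx K :=
  (rhom 14 (by norm_num)).comp (Matrix.SpecialLinearGroup.map (Fx M).subtype)

theorem phiB_upr (b : ↥(Fx M)) : phiB M (SLTwoRel.upr b) = xg certD4C 14 (b : K) := by
  have : Matrix.SpecialLinearGroup.map (Fx M).subtype (SLTwoRel.upr b) = SLTwoRel.upr (b : K) := by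
    refine Subtype.ext ?_
    ext i j
    fin_cases i <;> fin_cases j <;> simp [SLTwoRel.coe_upr]
  simp only [phiB, MonoidHom.comp_apply, this, rhom_upr]

theorem phiB_lwr (b : ↥(Fx M)) : phiB M (SLTwoRel.lwr b) = xg certD4C 9 (b : K) := by
  obtain ⟨-, -, -, -, -, n14, -⟩ := simp_roots
  have : Matrix.SpecialLinearGroup.map (Fx M).subtype (SLTwoRel.lwr b) = SLTwoRel.lwr (b : K) := by
    refine Subtype.ext ?_
    ext i j
    fin_cases i <;> fin_cases j <;> simp [coe_lwr]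
  simp only [phiB, MonoidHom.comp_apply, this, rhom_lwr, n14]

theorem phiB_rot : phiB M SLTwoRel.rot = wnu certD4C K [1] := by
  have : Matrix.SpecialLinearGroup.map (Fx M).subtype (SLTwoRel.rot : SL(2, ↥(Fx M))) = (SLTwoRel.rot : SL(2, K)) := by
    refine Subtype.ext ?_
    ext i j
    fin_cases i <;> fin_cases j <;> simp [SLTwoRel.coe_rot]
  simp only [phiB, MonoidHom.comp_apply, this, rhom_rot, wnu_one]

theorem phiB_tri (a : ↥(Fx M)) (ha : a ≠ 0) : phiB M (SLTwoRel.tri a 0 ha) = hg certD4C 14 (a : K) := by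
  have ha' : (a : K) ≠ 0 := fun e => ha (Subtype.ext e)
  have : Matrix.SpecialLinearGroup.map (Fx M).subtype (SLTwoRel.tri a 0 ha) = SLTwoRel.tri (a : K) 0 ha' := by
    refine Subtype.ext ?_
    ext i j
    fin_cases i <;> fin_cases j <;> simp [SLTwoRel.coe_tri]
  simp only [phiB, MonoidHom.comp_apply, this, rhom_tri]

theorem sym_neg : [symD4_3.root 5, symD4_3.root 10, symD4_3.root 11, symD4_3.root 9] = [10, 11, 5, 9] ∧
    [symD4_3.eps 5, symD4_3.eps 10, symD4_3.eps 11, symD4_3.eps 9] = [1, 1, 1, 1] := by decide +kernel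

theorem rot_eq {F : Type*} [Field F] :
    (SLTwoRel.rot : SL(2, F)) = SLTwoRel.upr 1 * SLTwoRel.lwr (-1) * SLTwoRel.upr 1 := by
  refine Subtype.ext ?_
  ext i j
  fin_cases i <;> fin_cases j <;>
    simp [SLTwoRel.coe_rot, SLTwoRel.coe_upr, coe_lwr, Matrix.mul_apply, Fin.sum_univ_two]

theorem phiA_grp (g : SL(2, K)) : phiA M g ∈ grp M := by
  suffices (⊤ : Subgroup SL(2, K)) ≤ (grp M).comap (phiA M) from this (Subgroup.mem_top g)
  rw [← SLTwoRel.closure_eq_top, Subgroup.closure_le]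
  have hu : ∀ b, phiA M (SLTwoRel.upr b) ∈ grp M := fun b => by rw [phiA_upr]; exact el_fixed M 5 (by norm_num) b
  have hl : ∀ b, phiA M (SLTwoRel.lwr b) ∈ grp M := fun b => by
    obtain ⟨hr, he⟩ := sym_neg
    simp only [List.cons.injEq, and_true] at hr he
    obtain ⟨r5, r10, r11, -⟩ := hr
    obtain ⟨e5, e10, e11, -⟩ := he
    obtain ⟨c1, c2, c3⟩ := chk_levi
    have hn := simp_roots
    have k1 := rhom_commute (K := K) (show 18 < 24 by norm_num) (show 13 < 24 by norm_num) c1 (by omega)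
    have k2 := rhom_commute (K := K) (show 18 < 24 by norm_num) (show 12 < 24 by norm_num) c2 (by omega)
    rw [phiA_lwr]
    refine (mem_grp M).2 ⟨mul_mem (mul_mem (xg_mem_group certD4C _ _) (xg_mem_group certD4C _ _))
      (xg_mem_group certD4C _ _), ?_⟩
    rw [twSigma_mul, twSigma_mul, sigma_xg M (by norm_num), sigma_xg M (by norm_num), sigma_xg M (by norm_num),
      r5, r10, r11, e5, e10, e11, Int.cast_one, one_mul, one_mul, one_mul, M.cube]
    have a1 := k1 (SLTwoRel.lwr b) (SLTwoRel.lwr (M.f b))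
    have a2 := k2 (SLTwoRel.lwr b) (SLTwoRel.lwr (M.f (M.f b)))
    obtain ⟨-, -, -, -, n18, -, n13, n12⟩ := simp_roots
    rw [rhom_lwr, rhom_lwr, n18, n13] at a1
    rw [rhom_lwr, rhom_lwr, n18, n12] at a2
    rw [mul_assoc, ← a2.eq, ← mul_assoc, ← a1.eq]
  rintro _ (⟨b, rfl⟩ | rfl)
  · exact hu b
  · show phiA M _ ∈ grp M
    rw [rot_eq, map_mul, map_mul]
    exact mul_mem (mul_mem (hu _) (hl _)) (hu _)

theorem phiB_grp (g : SL(2, ↥(Fx M))) : phiB M g ∈ grp M := by
  suffices (⊤ : Subgroup SL(2, ↥(Fx M))) ≤ (grp M).comap (phiB M) from this (Subgroup.mem_top g)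
  rw [← SLTwoRel.closure_eq_top, Subgroup.closure_le]
  obtain ⟨hr, he⟩ := sym_data
  simp only [List.cons.injEq, and_true] at hr he
  obtain ⟨hr', he'⟩ := sym_neg
  simp only [List.cons.injEq, and_true] at hr' he'
  have hu : ∀ b, phiB M (SLTwoRel.upr b) ∈ grp M := fun b => by
    refine (mem_grp M).2 ⟨by rw [phiB_upr]; exact xg_mem_group certD4C _ _, ?_⟩
    rw [phiB_upr, sigma_xg M (by norm_num), hr.2.2.1, he.2.2.1, Int.cast_one, one_mul, b.2]
  have hl : ∀ b, phiB M (SLTwoRel.lwr b) ∈ grp M := fun b => by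
    refine (mem_grp M).2 ⟨by rw [phiB_lwr]; exact xg_mem_group certD4C _ _, ?_⟩
    rw [phiB_lwr, sigma_xg M (by norm_num), hr'.2.2.2, he'.2.2.2, Int.cast_one, one_mul, b.2]
  rintro _ (⟨b, rfl⟩ | rfl)
  · exact hu b
  · show phiB M _ ∈ grp M
    rw [rot_eq, map_mul, map_mul]
    exact mul_mem (mul_mem (hu _) (hl _)) (hu _)

/-- The short homomorphism into the group. -/
noncomputable def homA : SL(2, K) →* ↥(grp M) := (phiA M).codRestrict (grp M) (phiA_grp M)

/-- The long homomorphism into the group. -/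
noncomputable def homB : SL(2, ↥(Fx M)) →* ↥(grp M) := (phiB M).codRestrict (grp M) (phiB_grp M)

/-- The characters of the two tori on the simple roots. -/
theorem tri_conj (a : K) (ha : a ≠ 0) (b : ↥(Fx M)) (hb : b ≠ 0) :
    (∀ z, phiA M (SLTwoRel.tri a 0 ha) * xg certD4C 18 z * (phiA M (SLTwoRel.tri a 0 ha))⁻¹ = xg certD4C 18 (a ^ 2 * z)) ∧
    (∀ z, phiA M (SLTwoRel.tri a 0 ha) * xg certD4C 14 z * (phiA M (SLTwoRel.tri a 0 ha))⁻¹ =
      xg certD4C 14 ((a * M.f a * M.f (M.f a))⁻¹ * z)) ∧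
    (∀ z, phiB M (SLTwoRel.tri b 0 hb) * xg certD4C 18 z * (phiB M (SLTwoRel.tri b 0 hb))⁻¹ =
      xg certD4C 18 ((b : K)⁻¹ * z)) ∧
    (∀ z, phiB M (SLTwoRel.tri b 0 hb) * xg certD4C 14 z * (phiB M (SLTwoRel.tri b 0 hb))⁻¹ =
      xg certD4C 14 ((b : K) ^ 2 * z)) := by
  obtain ⟨s0, s1, s2, s3, -⟩ := simp_roots
  have hconj : ∀ i, i < 4 → ∀ (w : K), w ≠ 0 → ∀ j, j < 4 → ∀ z, hg certD4C (tblD4.simp' i) w *
      xg certD4C (tblD4.simp' j) z * (hg certD4C (tblD4.simp' i) w)⁻¹ =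
        xg certD4C (tblD4.simp' j) (w ^ tblD4.cartan i (tblD4.simp' j) * z) := by
    intro i hi w hw j hj z
    have hi' : i < chevD4.rank := hi
    have hj' : j < chevD4.rank := hj
    rw [mul_inv_eq_iff_eq_mul]
    refine Units.ext ?_
    rw [Units.val_mul, Units.val_mul, coe_hg, coe_xg, coe_xg, ← certD4C.spec.shape.simple_eq i hi',
      hMat_mul_x certD4C hi' (certD4C.spec.simp_lt j hj') hw,
      certD4C.spec.shape.cartan_eq i hi' _ (certD4C.spec.simp_lt j hj')]
  obtain ⟨c00, c20, c30, c01, c21, c31, c10, c11⟩ :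
      tblD4.cartan 0 (tblD4.simp' 0) = 2 ∧ tblD4.cartan 2 (tblD4.simp' 0) = 0 ∧ tblD4.cartan 3 (tblD4.simp' 0) = 0 ∧
      tblD4.cartan 0 (tblD4.simp' 1) = -1 ∧ tblD4.cartan 2 (tblD4.simp' 1) = -1 ∧ tblD4.cartan 3 (tblD4.simp' 1) = -1 ∧
      tblD4.cartan 1 (tblD4.simp' 0) = -1 ∧ tblD4.cartan 1 (tblD4.simp' 1) = 2 := by decide +kernel
  have hfa : M.f a ≠ 0 := (map_ne_zero M.f).2 ha
  have hffa : M.f (M.f a) ≠ 0 := (map_ne_zero M.f).2 hfa
  have hb' : (b : K) ≠ 0 := fun e => hb (Subtype.ext e)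
  have three : ∀ (A B C x : GL chevD4.Idx K), A * B * C * x * (A * B * C)⁻¹ = A * (B * (C * x * C⁻¹) * B⁻¹) * A⁻¹ :=
    fun A B C x => by group
  refine ⟨fun z => ?_, fun z => ?_, fun z => ?_, fun z => ?_⟩
  · rw [phiA_tri, three]
    have k3 := hconj 3 (by norm_num) (M.f (M.f a)) hffa 0 (by norm_num) z
    have k2 := hconj 2 (by norm_num) (M.f a) hfa 0 (by norm_num) z
    have k0 := hconj 0 (by norm_num) a ha 0 (by norm_num) z
    rw [s3, s0, ← s0, c30, zpow_zero, one_mul, s0] at k3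
    rw [s2, s0, ← s0, c20, zpow_zero, one_mul, s0] at k2
    rw [s0, ← s0, c00, s0, show (a : K) ^ (2 : ℤ) = a ^ 2 from zpow_natCast a 2] at k0
    rw [k3, k2, k0]
  · rw [phiA_tri, three]
    have k3 := fun z => hconj 3 (by norm_num) (M.f (M.f a)) hffa 1 (by norm_num) z
    have k2 := fun z => hconj 2 (by norm_num) (M.f a) hfa 1 (by norm_num) z
    have k0 := fun z => hconj 0 (by norm_num) a ha 1 (by norm_num) z
    simp only [s3, c31, zpow_neg, zpow_one] at k3
    simp only [s2, c21, zpow_neg, zpow_one] at k2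
    simp only [s0, c01, zpow_neg, zpow_one] at k0
    rw [s1] at k3 k2 k0
    rw [k3, k2, k0]
    congr 1
    field_simp
  · rw [phiB_tri]
    have k := hconj 1 (by norm_num) (b : K) hb' 0 (by norm_num) z
    rw [c10, zpow_neg, zpow_one, s1, s0] at k
    exact k
  · rw [phiB_tri]
    have k := hconj 1 (by norm_num) (b : K) hb' 1 (by norm_num) z
    rw [c11, s1, show (b : K) ^ (2 : ℤ) = (b : K) ^ 2 from zpow_natCast _ 2] at k
    exact k

end Cfsg.Lib.Chev.TwMult.Tri
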