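import Cfsg.Agent.Lib.Chev.TrialityLang
import Cfsg.Agent.Lib.Chev.TwMult.Closed
import Cfsg.Agent.Lib.Chev.TwMult.RootChain

/-!
The root groups of ³D₄(q): six fixed orbit subgroups, closed from the top, with their torus weights.
-/

set_option autoImplicit false
set_option linter.unusedSectionVars false
set_option maxRecDepth 100000

namespace Cfsg.Lib.Chev.TwMult.Tri

open Cfsg.Lie Cfsg.Lib.Chev.TwMult
open scoped commutatorElement

variable {K : Type*} [Field K]

/-- The frame: the field endomorphism `t ↦ t ^ q` of order three. -/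
structure Frame (K : Type*) [Field K] [Fintype K] where
  q : ℕ
  f : K →+* K
  hq : IsPrimePow q
  hK : Fintype.card K = q ^ 3
  pow : ∀ t, f t = t ^ q
  iter : ∀ (j : ℕ) (t : K), f^[j] t = t ^ (q ^ j)
  cube : ∀ t, f (f (f t)) = t

variable [Fintype K] (M : Frame K)

theorem exists_frame {q : ℕ} (hq : IsPrimePow q) (hK : Fintype.card K = q ^ 3) : ∃ M' : Frame K, M'.q = q := by
  obtain ⟨f, hf, hit, hk⟩ := exists_frobQ (K := K) hq (by norm_num : (3 : ℕ) ≠ 0) (by rw [Nat.card_eq_fintype_card]; exact hK)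
  exact ⟨⟨q, f, hq, hK, hf, hit, hk⟩, rfl⟩

theorem ok : TwOK certD4C twD4 (twSigma symOKD4_tri M.f) :=
  twSimplyD4.twOK certD4C symOKD4_tri M.f fullCertD4 twCombD4

/-- The group. -/
noncomputable def grp : Subgroup (GL chevD4.Idx K) := (ok M).fixed certD4C

theorem grp_eq : Cfsg.Lie.twistedD4 K M.q = grp M :=
  twistedD4_eq_fixed M.hK M.hq M.pow M.iter fun t => M.cube t

theorem mem_grp {g : GL chevD4.Idx K} : g ∈ grp M ↔ g ∈ chevD4.group K ∧ twSigma symOKD4_tri M.f g = g := Iff.rfl

/-- The trace to the fixed field. -/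
def tr (v : K) : K := v + M.f v + M.f (M.f v)

theorem f_tr (v : K) : M.f (tr M v) = tr M v := by
  rw [tr, map_add, map_add, M.cube]; ring

theorem tr_add (a b : K) : tr M (a + b) = tr M a + tr M b := by simp only [tr, map_add]; ring

theorem tr_smul {c : K} (hc : M.f c = c) (v : K) : tr M (c * v) = c * tr M v := by
  simp only [tr, map_mul, hc]; ring

theorem tr_surj {c : K} (hc : M.f c = c) : ∃ v, tr M v = c := by
  classical
  obtain ⟨v, hv⟩ : ∃ v, tr M v ≠ 0 := by
    by_contra hall
    push Not at hall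
    have hq := M.hq.two_le
    let P : Polynomial K := Polynomial.X + Polynomial.X ^ M.q + Polynomial.X ^ (M.q ^ 2)
    have hlt : M.q < M.q ^ 2 := by nlinarith
    have hP : P.natDegree = M.q ^ 2 := by
      simp only [P]
      rw [Polynomial.natDegree_add_eq_right_of_natDegree_lt, Polynomial.natDegree_X_pow]
      rw [Polynomial.natDegree_add_eq_right_of_natDegree_lt, Polynomial.natDegree_X_pow, Polynomial.natDegree_X_pow]
      · exact hlt
      · rw [Polynomial.natDegree_X, Polynomial.natDegree_X_pow]; omega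
    have hP0 : P ≠ 0 := fun e => by rw [e, Polynomial.natDegree_zero] at hP; omega
    have hsub : (Finset.univ : Finset K) ⊆ P.roots.toFinset := fun x _ => by
      rw [Multiset.mem_toFinset, Polynomial.mem_roots hP0, Polynomial.IsRoot]
      have := hall x
      rw [tr, M.pow, M.pow, ← pow_mul, ← sq] at this
      simpa [P] using this
    have h1 := (Finset.card_le_card hsub).trans ((Multiset.toFinset_card_le _).trans (Polynomial.card_roots' P))
    rw [Finset.card_univ, M.hK, hP] at h1
    nlinarith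
  refine ⟨c / tr M v * v, ?_⟩
  rw [tr_smul M (by rw [map_div₀, hc, f_tr]) v, div_mul_cancel₀ _ hv]

/-- The orbit lists, from the highest root. -/
def orbit : ℕ → List ℕ
  | 0 => [23]
  | 1 => [22]
  | 2 => [20, 21, 17]
  | 3 => [16, 15, 19]
  | 4 => [14]
  | _ => [18, 13, 12]

/-- The roots of the orbits below `j`. -/
def below : ℕ → List ℕ
  | 0 => []
  | j + 1 => orbit j ++ below j

theorem below_pos : ∀ j ≤ 6, ∀ r ∈ below j, 12 ≤ r ∧ r < 24 := by decide
theorem below_nodup : ∀ j ≤ 6, (below j).Nodup := by decide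
theorem orbit_sub : ∀ j < 6, ∀ r ∈ orbit j, r ∈ below (j + 1) := by decide
theorem orbit_pos : ∀ j < 6, ∀ r ∈ orbit j, 12 ≤ r ∧ r < 24 := by decide
theorem chk_back : ∀ j ≤ 6, chkBack tblD4 (below j) = true := by decide +kernel
theorem chk_comm : ∀ j < 6, ∀ k < j, chkTerms tblD4 (orbit j) (orbit k) (below k) = true := by decide +kernel
theorem chk_norm : ∀ j < 6, ∀ k ≤ j, chkTerms tblD4 (orbit j) (below k) (below k) = true := by decide +kernel
theorem chk_abel : ∀ j < 6, chkTerms tblD4 (orbit j) (orbit j) [] = true := by decide +kernel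
theorem below_stable : ∀ j ≤ 6, ∀ r ∈ below j, symD4_3.root r ∈ below j := by decide +kernel

theorem lt24 {r : ℕ} (h : r < 24) : r < chevD4.nroots := by
  rw [show chevD4.nroots = 24 from rfl]; exact h

theorem orbit_lt {j : ℕ} (hj : j < 6) : ∀ r ∈ orbit j, r < chevD4.nroots := fun r hr => lt24 (orbit_pos j hj r hr).2

theorem below_lt {j : ℕ} (hj : j ≤ 6) : ∀ r ∈ below j, r < chevD4.nroots := fun r hr => lt24 (below_pos j hj r hr).2

theorem below_range {j : ℕ} (hj : j ≤ 6) : ∀ r ∈ below j, chevD4.nroots / 2 ≤ r ∧ r < chevD4.nroots := fun r hr => by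
  have := below_pos j hj r hr
  rw [show chevD4.nroots = 24 from rfl]; omega

theorem commute_orbit {j : ℕ} (hj : j < 6) {r s : ℕ} (hr : r ∈ orbit j) (hs : s ∈ orbit j) (a b : K) :
    Commute (xg certD4C r a) (xg certD4C s b) := by
  obtain ⟨w, hw, e⟩ := conj_xg_of_chk certD4C fullCertD4.comm (chk_abel j hj) (orbit_lt hj) (orbit_lt hj) hr hs a b
  have hbot : rootClosure certD4C K ([] : List ℕ) = ⊥ := by
    rw [rootClosure, show {g : GL chevD4.Idx K | ∃ r ∈ ([] : List ℕ), ∃ t : K, g = xg certD4C r t} = ∅ from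
      Set.eq_empty_iff_forall_notMem.2 fun g ⟨r, hr, _⟩ => absurd hr List.not_mem_nil, Subgroup.closure_empty]
  rw [hbot, Subgroup.mem_bot] at hw
  rw [hw, mul_one, mul_assoc, inv_mul_eq_iff_eq_mul] at e
  exact e.symm

/-- The root elements. -/
noncomputable def el : ℕ → K → GL chevD4.Idx K
  | 0, v => xg certD4C 23 (tr M v)
  | 1, v => xg certD4C 22 (tr M v)
  | 2, v => xg certD4C 20 v * xg certD4C 21 (M.f v) * xg certD4C 17 (-M.f (M.f v))
  | 3, v => xg certD4C 16 v * xg certD4C 15 (M.f v) * xg certD4C 19 (-M.f (M.f v))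
  | 4, v => xg certD4C 14 (tr M v)
  | _, v => xg certD4C 18 v * xg certD4C 13 (M.f v) * xg certD4C 12 (M.f (M.f v))

theorem el_mem_closure : ∀ j < 6, ∀ v : K, el M j v ∈ rootClosure certD4C K (orbit j) := by
  intro j hj v
  interval_cases j <;> simp only [el, orbit] <;>
    first
      | exact xg_mem_rootClosure certD4C (by simp) _
      | exact mul_mem (mul_mem (xg_mem_rootClosure certD4C (by simp) _) (xg_mem_rootClosure certD4C (by simp) _))
          (xg_mem_rootClosure certD4C (by simp) _)

theorem sigma_xg {r : ℕ} (hr : r < 24) (t : K) :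
    twSigma symOKD4_tri M.f (xg certD4C r t) = xg certD4C (symD4_3.root r) ((symD4_3.eps r : K) * M.f t) :=
  twSigma_xg certD4C symOKD4_tri M.f (lt24 hr) t

theorem sym_data : [symD4_3.root 23, symD4_3.root 22, symD4_3.root 14, symD4_3.root 20, symD4_3.root 21, symD4_3.root 17,
    symD4_3.root 16, symD4_3.root 15, symD4_3.root 19, symD4_3.root 18, symD4_3.root 13, symD4_3.root 12] =
      [23, 22, 14, 21, 17, 20, 15, 19, 16, 13, 12, 18] ∧
    [symD4_3.eps 23, symD4_3.eps 22, symD4_3.eps 14, symD4_3.eps 20, symD4_3.eps 21, symD4_3.eps 17,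
    symD4_3.eps 16, symD4_3.eps 15, symD4_3.eps 19, symD4_3.eps 18, symD4_3.eps 13, symD4_3.eps 12] =
      [1, 1, 1, 1, -1, -1, 1, -1, -1, 1, 1, 1] := by decide +kernel

theorem el_group (j : ℕ) (v : K) : el M j v ∈ chevD4.group K := by
  match j with
  | 0 | 1 | 4 => exact xg_mem_group certD4C _ _
  | 2 | 3 | n + 5 =>
    exact mul_mem (mul_mem (xg_mem_group certD4C _ _) (xg_mem_group certD4C _ _)) (xg_mem_group certD4C _ _)

theorem el_fixed : ∀ j < 6, ∀ v : K, el M j v ∈ grp M := by
  intro j hj v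
  refine (mem_grp M).2 ⟨el_group M j v, ?_⟩
  obtain ⟨hr, he⟩ := sym_data
  simp only [List.cons.injEq, and_true] at hr he
  obtain ⟨r23, r22, r14, r20, r21, r17, r16, r15, r19, r18, r13, r12⟩ := hr
  obtain ⟨e23, e22, e14, e20, e21, e17, e16, e15, e19, e18, e13, e12⟩ := he
  have three : ∀ {r s u : ℕ}, r ∈ orbit j → s ∈ orbit j → u ∈ orbit j → ∀ a b c : K,
      xg certD4C s b * xg certD4C u c * xg certD4C r a = xg certD4C r a * xg certD4C s b * xg certD4C u c := by
    intro r s u hr hs hu a b c
    rw [mul_assoc, (commute_orbit hj hu hr c a).eq, ← mul_assoc, (commute_orbit hj hs hr b a).eq]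
  interval_cases j
  · simp only [el, sigma_xg M (show 23 < 24 by norm_num), r23, e23, Int.cast_one, one_mul, f_tr]
  · simp only [el, sigma_xg M (show 22 < 24 by norm_num), r22, e22, Int.cast_one, one_mul, f_tr]
  · simp only [el, twSigma_mul, sigma_xg M (show 20 < 24 by norm_num), sigma_xg M (show 21 < 24 by norm_num),
      sigma_xg M (show 17 < 24 by norm_num), r20, r21, r17, e20, e21, e17, Int.cast_one, Int.cast_neg, one_mul,
      map_neg, M.cube, neg_mul, neg_neg]
    exact three (by simp [orbit]) (by simp [orbit]) (by simp [orbit]) _ _ _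
  · simp only [el, twSigma_mul, sigma_xg M (show 16 < 24 by norm_num), sigma_xg M (show 15 < 24 by norm_num),
      sigma_xg M (show 19 < 24 by norm_num), r16, r15, r19, e16, e15, e19, Int.cast_one, Int.cast_neg, one_mul,
      map_neg, M.cube, neg_mul, neg_neg]
    exact three (by simp [orbit]) (by simp [orbit]) (by simp [orbit]) _ _ _
  · simp only [el, sigma_xg M (show 14 < 24 by norm_num), r14, e14, Int.cast_one, one_mul, f_tr]
  · simp only [el, twSigma_mul, sigma_xg M (show 18 < 24 by norm_num), sigma_xg M (show 13 < 24 by norm_num),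
      sigma_xg M (show 12 < 24 by norm_num), r18, r13, r12, e18, e13, e12, Int.cast_one, one_mul, M.cube]
    exact three (by simp [orbit]) (by simp [orbit]) (by simp [orbit]) _ _ _

theorem el_add : ∀ j < 6, ∀ a b : K, el M j (a + b) = el M j a * el M j b := by
  intro j hj a b
  have three : ∀ {r s u : ℕ}, r ∈ orbit j → s ∈ orbit j → u ∈ orbit j → ∀ a₁ a₂ b₁ b₂ c₁ c₂ : K,
      xg certD4C r (a₁ + a₂) * xg certD4C s (b₁ + b₂) * xg certD4C u (c₁ + c₂) =
        xg certD4C r a₁ * xg certD4C s b₁ * xg certD4C u c₁ * (xg certD4C r a₂ * xg certD4C s b₂ * xg certD4C u c₂) := by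
    intro r s u hr hs hu a₁ a₂ b₁ b₂ c₁ c₂
    simp only [← xg_add]
    calc _ = xg certD4C r a₁ * (xg certD4C r a₂ * xg certD4C s b₁) * (xg certD4C s b₂ * xg certD4C u c₁) *
          xg certD4C u c₂ := by group
      _ = xg certD4C r a₁ * xg certD4C s b₁ * ((xg certD4C r a₂ * xg certD4C u c₁) * xg certD4C s b₂) *
          xg certD4C u c₂ := by
            rw [(commute_orbit hj hr hs a₂ b₁).eq, (commute_orbit hj hs hu b₂ c₁).eq]; group
      _ = _ := by rw [(commute_orbit hj hr hu a₂ c₁).eq]; group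
  interval_cases j
  iterate 2 (simp only [el, tr_add, ← xg_add])
  · simp only [el, map_add, neg_add]; exact three (by simp [orbit]) (by simp [orbit]) (by simp [orbit]) _ _ _ _ _ _
  · simp only [el, map_add, neg_add]; exact three (by simp [orbit]) (by simp [orbit]) (by simp [orbit]) _ _ _ _ _ _
  · simp only [el, tr_add, ← xg_add]
  · simp only [el, map_add]; exact three (by simp [orbit]) (by simp [orbit]) (by simp [orbit]) _ _ _ _ _ _

/-- The root elements in the group. -/
noncomputable def X (j : ℕ) (v : K) : ↥(grp M) := if h : j < 6 then ⟨el M j v, el_fixed M j h v⟩ else 1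

theorem X_val {j : ℕ} (hj : j < 6) (v : K) : (X M j v : GL chevD4.Idx K) = el M j v := by rw [X, dif_pos hj]

theorem X_add {j : ℕ} (hj : j < 6) (a b : K) : X M j (a + b) = X M j a * X M j b :=
  Subtype.ext (by rw [Subgroup.coe_mul, X_val M hj, X_val M hj, X_val M hj, el_add M j hj])

theorem orbit_stable : ∀ j < 6, ∀ r ∈ orbit j, symD4_3.root r ∈ orbit j := by decide +kernel

theorem sigma_closure {l : List ℕ} (hl : ∀ r ∈ l, r < 24) (hst : ∀ r ∈ l, symD4_3.root r ∈ l) {g : GL chevD4.Idx K}
    (hg : g ∈ rootClosure certD4C K l) : twSigma symOKD4_tri M.f g ∈ rootClosure certD4C K l :=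
  (ok M).map_closure certD4C (S := {g | ∃ r ∈ l, ∃ t : K, g = xg certD4C r t}) (fun _ ⟨r, _, t, e⟩ => e ▸ xg_mem_group certD4C r t)
    (fun _ ⟨r, hr, t, e⟩ => by rw [e, sigma_xg M (hl r hr)]; exact xg_mem_rootClosure certD4C (hst r hr) _) hg

theorem pset_orbit {j : ℕ} (hj : j < 6) {g : GL chevD4.Idx K} (hg : g ∈ Pset certD4C (orbit j))
    (hfix : twSigma symOKD4_tri M.f g = g) : ∃ v, g = el M j v := by
  obtain ⟨hr, he⟩ := sym_data
  simp only [List.cons.injEq, and_true] at hr he
  obtain ⟨r23, r22, r14, r20, r21, r17, r16, r15, r19, r18, r13, r12⟩ := hr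
  obtain ⟨e23, e22, e14, e20, e21, e17, e16, e15, e19, e18, e13, e12⟩ := he
  obtain ⟨t, rfl⟩ := hg
  have hone : ∀ r, orbit j = [r] → symD4_3.root r = r → symD4_3.eps r = 1 → M.f (t r) = t r := by
    intro r ho hr he
    have hr24 := (orbit_pos j hj r (by rw [ho]; simp)).2
    rw [ho] at hfix
    simp only [lprod, List.map_cons, List.map_nil, List.prod_cons, List.prod_nil, mul_one] at hfix
    rw [sigma_xg M hr24, hr, he, Int.cast_one, one_mul] at hfix
    have := lprod_inj certD4C fullCertD4.comm (l := [r]) (t := fun _ => M.f (t r)) (u := t) (by simp)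
      (fun x hx => by
        simp only [List.mem_singleton] at hx; subst hx
        exact below_range (j := j + 1) (by omega) x (orbit_sub j hj x (by rw [ho]; simp)))
      (by simpa [lprod] using hfix) r (by simp)
    exact this
  have hthree : ∀ r s u, orbit j = [r, s, u] → symD4_3.root r = s → symD4_3.root s = u → symD4_3.root u = r →
      t s = (symD4_3.eps r : K) * M.f (t r) ∧ t u = (symD4_3.eps s : K) * M.f (t s) := by
    intro r s u ho hr hs hu
    have hmr : r ∈ orbit j := by rw [ho]; simp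
    have hms : s ∈ orbit j := by rw [ho]; simp
    have hmu : u ∈ orbit j := by rw [ho]; simp
    have hnd : [r, s, u].Nodup := by
      have := below_nodup (j + 1) (by omega)
      rw [below, List.nodup_append, ho] at this
      exact this.1
    rw [ho] at hfix
    simp only [lprod, List.map_cons, List.map_nil, List.prod_cons, List.prod_nil, mul_one, ← mul_assoc] at hfix
    rw [twSigma_mul, twSigma_mul, sigma_xg M (orbit_pos j hj r hmr).2, sigma_xg M (orbit_pos j hj s hms).2,
      sigma_xg M (orbit_pos j hj u hmu).2, hr, hs, hu, mul_assoc, (commute_orbit hj hmu hmr _ _).eq, ← mul_assoc,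
      (commute_orbit hj hms hmr _ _).eq] at hfix
    obtain ⟨hnd1, hnd2⟩ := List.nodup_cons.1 hnd
    have hsr : s ≠ r := fun e => hnd1 (by simp [e])
    have hur : u ≠ r := fun e => hnd1 (by simp [e])
    have hus : u ≠ s := fun e => (List.nodup_cons.1 hnd2).1 (by simp [e])
    have key := lprod_inj certD4C fullCertD4.comm (l := [r, s, u])
      (t := fun x => if x = r then (symD4_3.eps u : K) * M.f (t u) else if x = s then (symD4_3.eps r : K) * M.f (t r)
        else (symD4_3.eps s : K) * M.f (t s)) (u := t) hnd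
      (fun x hx => below_range (j := j + 1) (by omega) x (orbit_sub j hj x (ho.symm ▸ hx)))
      (by simp only [lprod, List.map_cons, List.map_nil, List.prod_cons, List.prod_nil, mul_one, ← mul_assoc,
            if_pos rfl, if_neg hsr, if_neg hur, if_neg hus]
          exact hfix)
    have h1 := key s (by simp)
    have h2 := key u (by simp)
    simp only [if_neg hsr, if_pos rfl, if_neg hur, if_neg hus] at h1 h2
    exact ⟨h1.symm, h2.symm⟩
  interval_cases j
  · obtain ⟨v, hv⟩ := tr_surj M (hone 23 rfl r23 e23)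
    exact ⟨v, by simp [el, lprod, orbit, hv]⟩
  · obtain ⟨v, hv⟩ := tr_surj M (hone 22 rfl r22 e22)
    exact ⟨v, by simp [el, lprod, orbit, hv]⟩
  · obtain ⟨h1, h2⟩ := hthree 20 21 17 rfl r20 r21 r17
    rw [e20, Int.cast_one, one_mul] at h1
    rw [e21, h1] at h2
    exact ⟨t 20, by simp [el, lprod, orbit, h1, h2, mul_assoc]⟩
  · obtain ⟨h1, h2⟩ := hthree 16 15 19 rfl r16 r15 r19
    rw [e16, Int.cast_one, one_mul] at h1
    rw [e15, h1] at h2
    exact ⟨t 16, by simp [el, lprod, orbit, h1, h2, mul_assoc]⟩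
  · obtain ⟨v, hv⟩ := tr_surj M (hone 14 rfl r14 e14)
    exact ⟨v, by simp [el, lprod, orbit, hv]⟩
  · obtain ⟨h1, h2⟩ := hthree 18 13 12 rfl r18 r13 r12
    rw [e18, Int.cast_one, one_mul] at h1
    rw [e13, h1, Int.cast_one, one_mul] at h2
    exact ⟨t 18, by simp [el, lprod, orbit, h1, h2, mul_assoc]⟩

theorem pset_closure {j : ℕ} (hj : j ≤ 6) : (Pset certD4C (below j) : Set (GL chevD4.Idx K)) = rootClosure certD4C K (below j) :=
  Set.Subset.antisymm (fun _ ⟨t, e⟩ => e ▸ lprod_mem_rootClosure certD4C _ t)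
    (rootClosure_subset_pset certD4C fullCertD4.comm (chk_back j hj) (below_nodup j hj) (below_lt hj))

theorem fixed_split {j : ℕ} (hj : j < 6) {g : GL chevD4.Idx K} (hg : g ∈ Pset certD4C (below (j + 1)))
    (hfix : twSigma symOKD4_tri M.f g = g) :
    ∃ v, ∃ w ∈ Pset certD4C (below j), twSigma symOKD4_tri M.f w = w ∧ g = el M j v * w := by
  have hst : TwStable certD4C (twSigma symOKD4_tri M.f) (below j) := fun x hx => by
    rw [pset_closure (by omega)] at hx ⊢
    exact sigma_closure M (fun r hr => (below_pos j (by omega) r hr).2) (below_stable j (by omega)) hx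
  have horb : TwStable certD4C (twSigma symOKD4_tri M.f) (orbit j) := fun x hx => by
    have hcl : (rootClosure certD4C K (orbit j) : Set (GL chevD4.Idx K)) ⊆ Pset certD4C (orbit j) := by
      refine rootClosure_subset_pset certD4C fullCertD4.comm ?_ ?_ (orbit_lt hj)
      · interval_cases j <;> decide +kernel
      · have := below_nodup (j + 1) (by omega)
        rw [below, List.nodup_append] at this
        exact this.1
    obtain ⟨t, rfl⟩ := hx
    exact hcl (sigma_closure M (fun r hr => (orbit_pos j hj r hr).2) (orbit_stable j hj)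
      (lprod_mem_rootClosure certD4C _ t))
  obtain ⟨a, ha, b, hb, rfl⟩ := (ok M).fixed_split certD4C fullCertD4 twCombD4 (below_nodup (j + 1) (by omega))
    (below_range (j := j + 1) (by omega)) horb hst (g := g) ⟨hg, hfix⟩
  obtain ⟨v, rfl⟩ := pset_orbit M hj ha.1 ha.2
  exact ⟨v, b, hb.1, hb.2, rfl⟩

theorem fixed_mem_span : ∀ j ≤ 6, ∀ g : ↥(grp M), (g : GL chevD4.Idx K) ∈ Pset certD4C (below j) →
    g ∈ spanBelow (X M) j := by
  intro j
  induction j with
  | zero =>
    intro _ g hg
    obtain ⟨t, e⟩ := hg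
    have : g = 1 := Subtype.ext (by simpa [below, lprod] using e)
    rw [this]; exact one_mem _
  | succ j ih =>
    intro hj g hg
    obtain ⟨v, w, hw, hwf, e⟩ := fixed_split M (Nat.lt_of_succ_le hj) hg g.2.2
    have hwG : w ∈ chevD4.group K := by
      have : w = (el M j v)⁻¹ * (g : GL chevD4.Idx K) := by rw [e, inv_mul_cancel_left]
      rw [this]; exact mul_mem (inv_mem (el_group M j v)) g.2.1
    have hg' : g = X M j v * ⟨w, (mem_grp M).2 ⟨hwG, hwf⟩⟩ :=
      Subtype.ext (by rw [Subgroup.coe_mul, X_val M (Nat.lt_of_succ_le hj)]; exact e)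
    rw [hg']
    exact mul_mem (mem_spanBelow (Nat.lt_succ_self j) v)
      (spanBelow_mono (Nat.le_succ j) (ih (Nat.le_of_succ_le hj) ⟨w, (mem_grp M).2 ⟨hwG, hwf⟩⟩ hw))

theorem span_mem_closure {j : ℕ} (hj : j ≤ 6) {g : ↥(grp M)} (hg : g ∈ spanBelow (X M) j) :
    (g : GL chevD4.Idx K) ∈ rootClosure certD4C K (below j) := by
  induction hg using Subgroup.closure_induction with
  | mem g hg =>
    obtain ⟨k, hk, a, rfl⟩ := hg
    rw [X_val M (by omega : k < 6)]
    refine rootClosure_mono certD4C ?_ (el_mem_closure M k (by omega) a)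
    intro r hr
    have hsub : ∀ k < 6, ∀ j ≤ 6, k < j → ∀ r ∈ orbit k, r ∈ below j := by decide
    exact hsub k (by omega) j hj hk r hr
  | one => exact one_mem _
  | mul a b _ _ ha hb => exact mul_mem ha hb
  | inv a _ ha => exact inv_mem ha

theorem closed {j : ℕ} (hj : j < 6) {k : ℕ} (hk : k < j) (a b : K) :
    ⁅X M j a, X M k b⁆ ∈ spanBelow (X M) k := by
  refine fixed_mem_span M k (by omega) _ ?_
  rw [pset_closure (by omega : k ≤ 6)]
  show ((⁅X M j a, X M k b⁆ : ↥(grp M)) : GL chevD4.Idx K) ∈ rootClosure certD4C K (below k)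
  rw [commutatorElement_def, Subgroup.coe_mul, Subgroup.coe_mul, Subgroup.coe_mul, InvMemClass.coe_inv,
    InvMemClass.coe_inv, X_val M hj, X_val M (by omega : k < 6), ← commutatorElement_def]
  exact rootClosure_comm certD4C fullCertD4.comm (chk_comm j hj k hk) (chk_norm j hj k hk.le)
    (chk_norm k (by omega) k le_rfl) (orbit_lt hj) (orbit_lt (by omega)) (below_lt (by omega))
    (el_mem_closure M j hj a) (el_mem_closure M k (by omega) b)

theorem el_lprod : ∀ j < 6, ∀ v : K, ∃ t, el M j v = lprod certD4C (orbit j) t ∧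
    ((∀ r ∈ orbit j, t r = 0) → el M j v = 1) := by
  intro j hj v
  have hz : ∀ t : ℕ → K, el M j v = lprod certD4C (orbit j) t → (∀ r ∈ orbit j, t r = 0) → el M j v = 1 :=
    fun t e h => by rw [e, lprod_congr certD4C (u := fun _ => (0 : K)) h, lprod_zero]
  suffices ∃ t, el M j v = lprod certD4C (orbit j) t by
    obtain ⟨t, e⟩ := this; exact ⟨t, e, hz t e⟩
  interval_cases j
  · exact ⟨fun _ => tr M v, by simp [el, lprod, orbit]⟩
  · exact ⟨fun _ => tr M v, by simp [el, lprod, orbit]⟩
  · exact ⟨fun r => if r = 20 then v else if r = 21 then M.f v else -M.f (M.f v), by simp [el, lprod, orbit, mul_assoc]⟩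
  · exact ⟨fun r => if r = 16 then v else if r = 15 then M.f v else -M.f (M.f v), by simp [el, lprod, orbit, mul_assoc]⟩
  · exact ⟨fun _ => tr M v, by simp [el, lprod, orbit]⟩
  · exact ⟨fun r => if r = 18 then v else if r = 13 then M.f v else M.f (M.f v), by simp [el, lprod, orbit, mul_assoc]⟩

theorem inj {j : ℕ} (hj : j < 6) (a : K) (h : X M j a ∈ spanBelow (X M) j) : X M j a = 1 := by
  classical
  have h1 := span_mem_closure M hj.le h
  rw [← SetLike.mem_coe, ← pset_closure hj.le, X_val M hj] at h1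
  obtain ⟨u, hu⟩ := h1
  obtain ⟨t, ht, ht0⟩ := el_lprod M j hj a
  have hnd := below_nodup (j + 1) (by omega)
  rw [below] at hnd
  obtain ⟨-, -, hdisj⟩ := List.nodup_append.1 hnd
  let t1 : ℕ → K := fun r => if r ∈ orbit j then t r else 0
  let t2 : ℕ → K := fun r => if r ∈ orbit j then 0 else u r
  have e1 : lprod certD4C (orbit j ++ below j) t1 = el M j a := by
    rw [lprod_append, lprod_congr certD4C (u := fun _ => (0 : K))
      (fun r hr => if_neg fun h => hdisj r h r hr rfl : ∀ r ∈ below j, t1 r = 0), lprod_zero, mul_one, ht]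
    exact lprod_congr certD4C fun r hr => by simp [t1, hr]
  have e2 : lprod certD4C (orbit j ++ below j) t2 = el M j a := by
    rw [lprod_append, lprod_congr certD4C (u := fun _ => (0 : K))
      (fun r hr => if_pos hr : ∀ r ∈ orbit j, t2 r = 0), lprod_zero, one_mul, hu]
    exact lprod_congr certD4C fun r hr => if_neg fun h => hdisj r h r hr rfl
  have key := lprod_inj certD4C fullCertD4.comm hnd (below_range (j := j + 1) (by omega)) (e1.trans e2.symm)
  refine Subtype.ext ?_
  rw [X_val M hj]
  refine ht0 fun r hr => ?_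
  have := key r (List.mem_append_left _ hr)
  simpa [t1, t2, hr] using this

end Cfsg.Lib.Chev.TwMult.Tri
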