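import Cfsg.Agent.Lib.Chev.TwMult.Triality.Weights

/-!
Relations in the unipotent group of ³D₄(2).
-/

set_option autoImplicit false
set_option linter.unusedSectionVars false
set_option linter.unusedVariables false
set_option maxRecDepth 100000

namespace Cfsg.Lib.Chev.TwMult.Tri

open Cfsg.Lie Cfsg.Lib.Chev.TwMult
open scoped commutatorElement

variable {K : Type*} [Field K] [Fintype K] (M : Frame K)

/-- The pairs of roots used below, with the roots their commutators land in. -/
theorem two_terms :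
    [tTerms tblD4 16 20, tTerms tblD4 15 21, tTerms tblD4 19 17] = List.replicate 3 [(23, -1, 1, 1)] ∧
    [tTerms tblD4 18 17, tTerms tblD4 13 20, tTerms tblD4 12 21] =
      [[(22, -1, 1, 1)], [(22, 1, 1, 1)], [(22, 1, 1, 1)]] ∧
    [tTerms tblD4 18 16, tTerms tblD4 18 15, tTerms tblD4 13 15, tTerms tblD4 13 19, tTerms tblD4 12 16,
      tTerms tblD4 12 19] =
      [[(21, -1, 1, 1)], [(20, -1, 1, 1)], [(17, 1, 1, 1)], [(21, 1, 1, 1)], [(17, 1, 1, 1)], [(20, 1, 1, 1)]] ∧
    [tTerms tblD4 16 21, tTerms tblD4 16 17, tTerms tblD4 15 20, tTerms tblD4 15 17, tTerms tblD4 19 20,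
      tTerms tblD4 19 21, tTerms tblD4 18 20, tTerms tblD4 18 21, tTerms tblD4 13 21, tTerms tblD4 13 17,
      tTerms tblD4 12 20, tTerms tblD4 12 17, tTerms tblD4 18 19, tTerms tblD4 13 16, tTerms tblD4 12 15,
      tTerms tblD4 23 20, tTerms tblD4 23 21, tTerms tblD4 23 17, tTerms tblD4 22 20, tTerms tblD4 22 21,
      tTerms tblD4 22 17, tTerms tblD4 16 23, tTerms tblD4 15 23, tTerms tblD4 19 23, tTerms tblD4 18 22,
      tTerms tblD4 13 22, tTerms tblD4 12 22] = List.replicate 27 [] := by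
  refine ⟨?_, ?_, ?_, ?_⟩ <;> decide +kernel

theorem neg_small : ∀ r < 24, 12 ≤ r → tblD4.neg r < 12 := by decide +kernel

variable [CharP K 2]

theorem conj_pair {r s o : ℕ} {ε : ℤ} (hr : 12 ≤ r ∧ r < 24) (hs : 12 ≤ s ∧ s < 24) (hne : s ≠ r)
    (hterms : tTerms tblD4 r s = [(o, ε, 1, 1)]) (hε : ε = 1 ∨ ε = -1) (u : K) :
    xg certD4C r 1 * xg certD4C s u * (xg certD4C r (1 : K))⁻¹ = xg certD4C s u * xg certD4C o u := by
  have hneg : s ≠ tblD4.neg r := fun e => by have := neg_small r hr.2 hr.1; omega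
  have hf := comm_formula fullCertD4.comm (F := K) (lt24 hr.2) (lt24 hs.2) hne hneg 1 u
  rw [ChevalleyDatum.commWord, commTerms_eq certD4C (lt24 hr.2) (lt24 hs.2), hterms] at hf
  have hu : xg certD4C s u * xg certD4C r (1 : K) = xg certD4C r 1 * xg certD4C s u * xg certD4C o u := by
    refine Units.ext ?_
    rcases hε with rfl | rfl <;> simpa [ChevalleyDatum.wordMat, coe_xg, CharTwo.neg_eq] using hf
  have hinv : (xg certD4C r (1 : K))⁻¹ = xg certD4C r 1 := by rw [xg_inv, CharTwo.neg_eq]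
  calc xg certD4C r 1 * xg certD4C s u * (xg certD4C r (1 : K))⁻¹
      = (xg certD4C r (1 : K))⁻¹ * (xg certD4C s u * xg certD4C r (1 : K)) := by
        simp only [hinv, mul_assoc]
    _ = _ := by rw [hu, mul_assoc, inv_mul_cancel_left]

theorem pair_commute {r s : ℕ} (hr : 12 ≤ r ∧ r < 24) (hs : 12 ≤ s ∧ s < 24) (hne : s ≠ r)
    (hterms : tTerms tblD4 r s = []) (t u : K) : Commute (xg certD4C r t) (xg certD4C s u) := by
  have hneg : s ≠ tblD4.neg r := fun e => by have := neg_small r hr.2 hr.1; omega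
  have hf := comm_formula fullCertD4.comm (F := K) (lt24 hr.2) (lt24 hs.2) hne hneg t u
  rw [ChevalleyDatum.commWord, commTerms_eq certD4C (lt24 hr.2) (lt24 hs.2), hterms] at hf
  refine (?_ : Commute (xg certD4C s u) (xg certD4C r t)).symm
  exact Units.ext (by simpa [ChevalleyDatum.wordMat, coe_xg] using hf)

theorem conj_fix {r s : ℕ} (hr : 12 ≤ r ∧ r < 24) (hs : 12 ≤ s ∧ s < 24) (hne : s ≠ r)
    (hterms : tTerms tblD4 r s = []) (u : K) :
    xg certD4C r 1 * xg certD4C s u * (xg certD4C r (1 : K))⁻¹ = xg certD4C s u := by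
  rw [(pair_commute hr hs hne hterms 1 u).eq, mul_inv_cancel_right]

/-- The highest root group as commutators of the two highest short root groups. -/
theorem comm_DC (v : K) : ⁅X M 3 1, X M 2 v⁆ = X M 0 v := by
  obtain ⟨h1, -, -, h0⟩ := two_terms
  simp only [List.replicate, List.cons.injEq, and_true] at h1 h0
  obtain ⟨c1, c2, c3⟩ := h1
  obtain ⟨z1, z2, z3, z4, z5, z6, -, -, -, -, -, -, -, -, -, w1, w2, w3, -, -, -, d1, d2, d3, -, -, -⟩ := h0
  refine Subtype.ext ?_
  rw [commutatorElement_def, Subgroup.coe_mul, Subgroup.coe_mul, Subgroup.coe_mul, InvMemClass.coe_inv,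
    InvMemClass.coe_inv, X_val M (by norm_num : 3 < 6), X_val M (by norm_num : 2 < 6), X_val M (by norm_num : 0 < 6)]
  simp only [el, map_one, CharTwo.neg_eq]
  set g := xg certD4C 16 (1 : K) * xg certD4C 15 1 * xg certD4C 19 1
  have key : g * (xg certD4C 20 v * xg certD4C 21 (M.f v) * xg certD4C 17 (M.f (M.f v))) * g⁻¹ =
      xg certD4C 23 (tr M v) * (xg certD4C 20 v * xg certD4C 21 (M.f v) * xg certD4C 17 (M.f (M.f v))) := by
    let φ : ℕ → GL chevD4.Idx K →* GL chevD4.Idx K := fun r => (MulAut.conj (xg certD4C r (1 : K))).toMonoidHom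
    have hg : ∀ x, g * x * g⁻¹ = φ 16 (φ 15 (φ 19 x)) := fun x => by
      simp only [φ, g, MulEquiv.coe_toMonoidHom, MulAut.conj_apply]; group
    have e : ∀ {r s o : ℕ} {ε : ℤ}, 12 ≤ r ∧ r < 24 → 12 ≤ s ∧ s < 24 → s ≠ r → tTerms tblD4 r s = [(o, ε, 1, 1)] →
        (ε = 1 ∨ ε = -1) → ∀ u, φ r (xg certD4C s u) = xg certD4C s u * xg certD4C o u := fun hr hs hne h hε u =>
      conj_pair hr hs hne h hε u
    have k : ∀ {r s : ℕ}, 12 ≤ r ∧ r < 24 → 12 ≤ s ∧ s < 24 → s ≠ r → tTerms tblD4 r s = [] →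
        ∀ u, φ r (xg certD4C s u) = xg certD4C s u := fun hr hs hne h u => conj_fix hr hs hne h u
    rw [hg]
    simp only [map_mul, k (by norm_num) (by norm_num) (by norm_num) z5, k (by norm_num) (by norm_num) (by norm_num) z6,
      e (by norm_num) (by norm_num) (by norm_num) c3 (Or.inr rfl), k (by norm_num) (by norm_num) (by norm_num) z3,
      e (by norm_num) (by norm_num) (by norm_num) c2 (Or.inr rfl), k (by norm_num) (by norm_num) (by norm_num) z4,
      e (by norm_num) (by norm_num) (by norm_num) c1 (Or.inr rfl), k (by norm_num) (by norm_num) (by norm_num) z1,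
      k (by norm_num) (by norm_num) (by norm_num) z2, k (by norm_num) (by norm_num) (by norm_num) d1,
      k (by norm_num) (by norm_num) (by norm_num) d2]
    have m : ∀ a b, Commute (xg certD4C 23 (a : K)) (xg certD4C 21 b) := pair_commute (by norm_num) (by norm_num) (by norm_num) w2
    have n : ∀ a b, Commute (xg certD4C 23 (a : K)) (xg certD4C 17 b) := pair_commute (by norm_num) (by norm_num) (by norm_num) w3
    have o : ∀ a b, Commute (xg certD4C 23 (a : K)) (xg certD4C 20 b) := pair_commute (by norm_num) (by norm_num) (by norm_num) w1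
    rw [((o (tr M v) v).mul_right (m _ (M.f v))).mul_right (n _ (M.f (M.f v))) |>.eq]
    calc _ = xg certD4C 20 v * (xg certD4C 23 v * xg certD4C 21 (M.f v)) * (xg certD4C 23 (M.f v) *
          xg certD4C 17 (M.f (M.f v))) * xg certD4C 23 (M.f (M.f v)) := by group
      _ = xg certD4C 20 v * xg certD4C 21 (M.f v) * (xg certD4C 23 v * xg certD4C 17 (M.f (M.f v))) *
          xg certD4C 23 (M.f v) * xg certD4C 23 (M.f (M.f v)) := by
        rw [(m v (M.f v)).eq, (n (M.f v) (M.f (M.f v))).eq]; group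
      _ = _ := by rw [(n v (M.f (M.f v))).eq, tr, ← xg_add, ← xg_add]; group
  rw [key, mul_inv_cancel_right]

/-- The second long root group as commutators of the two extreme short root groups. -/
theorem comm_AC (v : K) : ⁅X M 5 1, X M 2 v⁆ = X M 1 v := by
  obtain ⟨-, h2, -, h0⟩ := two_terms
  simp only [List.replicate, List.cons.injEq, and_true] at h2 h0
  obtain ⟨c1, c2, c3⟩ := h2
  obtain ⟨-, -, -, -, -, -, z1, z2, z3, z4, z5, z6, -, -, -, -, -, -, w1, w2, w3, -, -, -, d1, d2, d3⟩ := h0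
  refine Subtype.ext ?_
  rw [commutatorElement_def, Subgroup.coe_mul, Subgroup.coe_mul, Subgroup.coe_mul, InvMemClass.coe_inv,
    InvMemClass.coe_inv, X_val M (by norm_num : 5 < 6), X_val M (by norm_num : 2 < 6), X_val M (by norm_num : 1 < 6)]
  simp only [el, map_one, CharTwo.neg_eq]
  set g := xg certD4C 18 (1 : K) * xg certD4C 13 1 * xg certD4C 12 1
  have key : g * (xg certD4C 20 v * xg certD4C 21 (M.f v) * xg certD4C 17 (M.f (M.f v))) * g⁻¹ =
      xg certD4C 22 (tr M v) * (xg certD4C 20 v * xg certD4C 21 (M.f v) * xg certD4C 17 (M.f (M.f v))) := by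
    let φ : ℕ → GL chevD4.Idx K →* GL chevD4.Idx K := fun r => (MulAut.conj (xg certD4C r (1 : K))).toMonoidHom
    have hg : ∀ x, g * x * g⁻¹ = φ 18 (φ 13 (φ 12 x)) := fun x => by
      simp only [φ, g, MulEquiv.coe_toMonoidHom, MulAut.conj_apply]; group
    have e : ∀ {r s o : ℕ} {ε : ℤ}, 12 ≤ r ∧ r < 24 → 12 ≤ s ∧ s < 24 → s ≠ r → tTerms tblD4 r s = [(o, ε, 1, 1)] →
        (ε = 1 ∨ ε = -1) → ∀ u, φ r (xg certD4C s u) = xg certD4C s u * xg certD4C o u := fun hr hs hne h hε u =>
      conj_pair hr hs hne h hε u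
    have k : ∀ {r s : ℕ}, 12 ≤ r ∧ r < 24 → 12 ≤ s ∧ s < 24 → s ≠ r → tTerms tblD4 r s = [] →
        ∀ u, φ r (xg certD4C s u) = xg certD4C s u := fun hr hs hne h u => conj_fix hr hs hne h u
    rw [hg]
    simp only [map_mul, k (by norm_num) (by norm_num) (by norm_num) z5, k (by norm_num) (by norm_num) (by norm_num) z6,
      e (by norm_num) (by norm_num) (by norm_num) c3 (Or.inl rfl), k (by norm_num) (by norm_num) (by norm_num) z3,
      k (by norm_num) (by norm_num) (by norm_num) z4, e (by norm_num) (by norm_num) (by norm_num) c2 (Or.inl rfl),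
      k (by norm_num) (by norm_num) (by norm_num) z1, k (by norm_num) (by norm_num) (by norm_num) z2,
      e (by norm_num) (by norm_num) (by norm_num) c1 (Or.inr rfl), k (by norm_num) (by norm_num) (by norm_num) d1,
      k (by norm_num) (by norm_num) (by norm_num) d2]
    have m : ∀ a b, Commute (xg certD4C 22 (a : K)) (xg certD4C 21 b) := pair_commute (by norm_num) (by norm_num) (by norm_num) w2
    have n : ∀ a b, Commute (xg certD4C 22 (a : K)) (xg certD4C 17 b) := pair_commute (by norm_num) (by norm_num) (by norm_num) w3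
    have o : ∀ a b, Commute (xg certD4C 22 (a : K)) (xg certD4C 20 b) := pair_commute (by norm_num) (by norm_num) (by norm_num) w1
    rw [((o (tr M v) v).mul_right (m _ (M.f v))).mul_right (n _ (M.f (M.f v))) |>.eq]
    calc _ = xg certD4C 20 v * (xg certD4C 22 v * xg certD4C 21 (M.f v)) * (xg certD4C 22 (M.f v) *
          xg certD4C 17 (M.f (M.f v))) * xg certD4C 22 (M.f (M.f v)) := by group
      _ = xg certD4C 20 v * xg certD4C 21 (M.f v) * (xg certD4C 22 v * xg certD4C 17 (M.f (M.f v))) *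
          xg certD4C 22 (M.f v) * xg certD4C 22 (M.f (M.f v)) := by
        rw [(m v (M.f v)).eq, (n (M.f v) (M.f (M.f v))).eq]; group
      _ = _ := by rw [(n v (M.f (M.f v))).eq, tr, ← xg_add, ← xg_add]; group
  rw [key, mul_inv_cancel_right]

theorem shuffle_nine {G : Type*} [CommMonoid G] (a b c d e g h i j : G) :
    a * b * c * (d * e * g) * (h * i * j) = a * d * h * (e * j * (i * b) * (c * g)) := by
  ac_rfl

theorem chk_mid :
    chkTerms tblD4 [16, 15, 19, 20, 21, 17, 22, 23] [16, 15, 19, 20, 21, 17, 22, 23] [22, 23] = true ∧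
    chkTerms tblD4 [16, 15, 19, 20, 21, 17, 22, 23] [22, 23] [22, 23] = true := by decide +kernel

/-- Conjugation of the middle short root group by a simple short root element. -/
theorem conj_AD (y : K) : ∃ w ∈ spanBelow (X M) 2,
    X M 5 1 * X M 3 y * (X M 5 1)⁻¹ = X M 3 y * X M 2 (M.f y + M.f (M.f y)) * w := by
  obtain ⟨-, h2, h3, h0⟩ := two_terms
  simp only [List.replicate, List.cons.injEq, and_true] at h2 h3 h0
  obtain ⟨b1, b2, b3⟩ := h2
  obtain ⟨c1, c2, c3, c4, c5, c6⟩ := h3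
  obtain ⟨-, -, -, -, -, -, z1, z2, z3, z4, z5, z6, z7, z8, z9, -, -, -, -, -, -, -, -, -, d1, d2, d3⟩ := h0
  let W : Subgroup (GL chevD4.Idx K) := rootClosure certD4C K [16, 15, 19, 20, 21, 17, 22, 23]
  let N : Subgroup (GL chevD4.Idx K) := rootClosure certD4C K [22, 23]
  have hl1 : ∀ r ∈ [16, 15, 19, 20, 21, 17, 22, 23], r < chevD4.nroots := fun r hr => lt24 (by revert r; decide)
  have hl2 : ∀ r ∈ [22, 23], r < chevD4.nroots := fun r hr => lt24 (by revert r; decide)
  have hcomm : ∀ a ∈ W, ∀ b ∈ W, ⁅a, b⁆ ∈ N := fun a ha b hb =>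
    rootClosure_comm certD4C fullCertD4.comm chk_mid.1 chk_mid.2 chk_mid.2 hl1 hl1 hl2 ha hb
  haveI : (N.subgroupOf W).Normal := ⟨fun n hn g =>
    (rootClosure_conj certD4C fullCertD4.comm chk_mid.2 hl1 hl2 g.2).1 _ hn⟩
  let π : ↥W →* ↥W ⧸ N.subgroupOf W := QuotientGroup.mk' _
  letI : CommGroup (↥W ⧸ N.subgroupOf W) := { (inferInstance : Group (↥W ⧸ N.subgroupOf W)) with
    mul_comm := fun x y => by
      obtain ⟨a, rfl⟩ := QuotientGroup.mk_surjective x
      obtain ⟨b, rfl⟩ := QuotientGroup.mk_surjective y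
      rw [← QuotientGroup.mk_mul, ← QuotientGroup.mk_mul, QuotientGroup.eq]
      show ((a * b)⁻¹ * (b * a) : ↥W).1 ∈ N
      have := hcomm _ (inv_mem b.2) _ (inv_mem a.2)
      simpa [commutatorElement_def, mul_assoc] using this }
  let φ : ℕ → GL chevD4.Idx K →* GL chevD4.Idx K := fun r => (MulAut.conj (xg certD4C r (1 : K))).toMonoidHom
  have e : ∀ {r s o : ℕ} {ε : ℤ}, 12 ≤ r ∧ r < 24 → 12 ≤ s ∧ s < 24 → s ≠ r → tTerms tblD4 r s = [(o, ε, 1, 1)] →
      (ε = 1 ∨ ε = -1) → ∀ u, φ r (xg certD4C s u) = xg certD4C s u * xg certD4C o u := fun hr hs hne h hε u =>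
    conj_pair hr hs hne h hε u
  have k : ∀ {r s : ℕ}, 12 ≤ r ∧ r < 24 → 12 ≤ s ∧ s < 24 → s ≠ r → tTerms tblD4 r s = [] →
      ∀ u, φ r (xg certD4C s u) = xg certD4C s u := fun hr hs hne h u => conj_fix hr hs hne h u
  have hexact : el M 5 1 * el M 3 y * (el M 5 (1 : K))⁻¹ =
      φ 18 (φ 13 (φ 12 (xg certD4C 16 y * xg certD4C 15 (M.f y) * xg certD4C 19 (M.f (M.f y))))) := by
    simp only [el, map_one, CharTwo.neg_eq, φ, MulEquiv.coe_toMonoidHom, MulAut.conj_apply]; group
  simp only [map_mul, e (by norm_num) (by norm_num) (by norm_num) c5 (Or.inl rfl),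
    k (by norm_num) (by norm_num) (by norm_num) z9, e (by norm_num) (by norm_num) (by norm_num) c6 (Or.inl rfl),
    k (by norm_num) (by norm_num) (by norm_num) z8, e (by norm_num) (by norm_num) (by norm_num) c3 (Or.inl rfl),
    e (by norm_num) (by norm_num) (by norm_num) c4 (Or.inl rfl),
    e (by norm_num) (by norm_num) (by norm_num) b2 (Or.inl rfl), k (by norm_num) (by norm_num) (by norm_num) z4,
    e (by norm_num) (by norm_num) (by norm_num) c1 (Or.inr rfl),
    e (by norm_num) (by norm_num) (by norm_num) c2 (Or.inr rfl),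
    k (by norm_num) (by norm_num) (by norm_num) z7, k (by norm_num) (by norm_num) (by norm_num) z1,
    k (by norm_num) (by norm_num) (by norm_num) z2, e (by norm_num) (by norm_num) (by norm_num) b1 (Or.inr rfl),
    k (by norm_num) (by norm_num) (by norm_num) d1] at hexact
  -- the same element in the commutative quotient
  have hw : ∀ r ∈ [16, 15, 19, 20, 21, 17, 22, 23], ∀ t, xg certD4C r (t : K) ∈ W := fun r hr t =>
    xg_mem_rootClosure certD4C hr t
  let E : ℕ → K → ↥W ⧸ N.subgroupOf W := fun r t =>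
    if h : r ∈ [16, 15, 19, 20, 21, 17, 22, 23] then π ⟨xg certD4C r t, hw r h t⟩ else 1
  have hE : ∀ r (h : r ∈ [16, 15, 19, 20, 21, 17, 22, 23]) t, π ⟨xg certD4C r t, hw r h t⟩ = E r t := fun r h t => by
    simp only [E, dif_pos h]
  have hEadd : ∀ r ∈ [16, 15, 19, 20, 21, 17, 22, 23], ∀ s t, E r (s + t) = E r s * E r t := fun r h s t => by
    rw [← hE r h, ← hE r h, ← hE r h, ← map_mul]
    exact congrArg π (Subtype.ext (xg_add certD4C r s t).symm)
  have hE22 : ∀ t, E 22 t = 1 := fun t => by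
    rw [← hE 22 (by decide)]
    exact (QuotientGroup.eq_one_iff _).2 (xg_mem_rootClosure certD4C (by decide) t)
  have hX5 : ∀ j ∈ [2, 3], ∀ v, el M j v ∈ W := by
    intro j hj v
    simp only [List.mem_cons, List.not_mem_nil, or_false] at hj
    rcases hj with rfl | rfl <;> exact mul_mem (mul_mem (hw _ (by decide) _) (hw _ (by decide) _)) (hw _ (by decide) _)
  have hlhs : el M 5 1 * el M 3 y * (el M 5 (1 : K))⁻¹ ∈ W := by
    rw [hexact]
    repeat' apply mul_mem
    all_goals exact hw _ (by decide) _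
  have hrhs : el M 3 y * el M 2 (M.f y + M.f (M.f y)) ∈ W := mul_mem (hX5 3 (by decide) _) (hX5 2 (by decide) _)
  let x : ∀ r, r ∈ [16, 15, 19, 20, 21, 17, 22, 23] → K → ↥W := fun r h t => ⟨xg certD4C r t, hw r h t⟩
  have hx : ∀ r h t, π (x r h t) = E r t := fun r h t => hE r h t
  have el3 : el M 3 y = xg certD4C 16 y * xg certD4C 15 (M.f y) * xg certD4C 19 (M.f (M.f y)) := by
    simp only [el, CharTwo.neg_eq]
  have el2 : el M 2 (M.f y + M.f (M.f y)) =
      xg certD4C 20 (M.f y + M.f (M.f y)) * xg certD4C 21 (M.f (M.f y) + y) * xg certD4C 17 (y + M.f y) := by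
    simp only [el, CharTwo.neg_eq, map_add, M.cube]
  have hq : π ⟨_, hlhs⟩ = π ⟨_, hrhs⟩ := by
    rw [show (⟨_, hlhs⟩ : ↥W) =
        (x 16 (by decide) y * x 21 (by decide) y) * (x 17 (by decide) y * x 22 (by decide) y) *
          ((x 15 (by decide) (M.f y) * x 20 (by decide) (M.f y)) *
            (x 17 (by decide) (M.f y) * x 22 (by decide) (M.f y))) *
          ((x 19 (by decide) (M.f (M.f y)) * x 21 (by decide) (M.f (M.f y))) *
            (x 20 (by decide) (M.f (M.f y)) * x 22 (by decide) (M.f (M.f y)))) from Subtype.ext hexact,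
      show (⟨_, hrhs⟩ : ↥W) =
        (x 16 (by decide) y * x 15 (by decide) (M.f y) * x 19 (by decide) (M.f (M.f y))) *
          (x 20 (by decide) (M.f y + M.f (M.f y)) * x 21 (by decide) (M.f (M.f y) + y) *
            x 17 (by decide) (y + M.f y)) from Subtype.ext (congrArg₂ (· * ·) el3 el2)]
    simp only [map_mul, hx, hE22, mul_one, hEadd 20 (by decide), hEadd 21 (by decide), hEadd 17 (by decide)]
    exact shuffle_nine (E 16 y) (E 21 y) (E 17 y) (E 15 (M.f y)) (E 20 (M.f y)) (E 17 (M.f y)) (E 19 (M.f (M.f y)))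
      (E 21 (M.f (M.f y))) (E 20 (M.f (M.f y)))
  have hN : (el M 3 y * el M 2 (M.f y + M.f (M.f y)))⁻¹ * (el M 5 1 * el M 3 y * (el M 5 (1 : K))⁻¹) ∈ N :=
    (QuotientGroup.eq (s := N.subgroupOf W)).1 hq.symm
  refine ⟨(X M 3 y * X M 2 (M.f y + M.f (M.f y)))⁻¹ * (X M 5 1 * X M 3 y * (X M 5 1)⁻¹), fixed_mem_span M 2 (by norm_num) _ ?_,
    (mul_inv_cancel_left _ _).symm⟩
  rw [pset_closure (by norm_num : 2 ≤ 6)]
  simp only [Subgroup.coe_mul, InvMemClass.coe_inv, X_val M (show 2 < 6 by norm_num), X_val M (show 3 < 6 by norm_num),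
    X_val M (show 5 < 6 by norm_num)]
  exact rootClosure_mono certD4C (by decide) hN

end Cfsg.Lib.Chev.TwMult.Tri
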