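import Cfsg.Agent.Lib.Chev.TwMult.Triality.PPart
import Cfsg.Agent.Lib.Chev.TwMult.Triality.TwoRel

/-!
The Schur multiplier of ³D₄(2) has trivial two-part: the derived group of a Sylow two-subgroup lifts.
-/

set_option autoImplicit false
set_option linter.unusedSectionVars false
set_option linter.unusedVariables false
set_option maxRecDepth 100000
set_option maxHeartbeats 800000

namespace Cfsg.Lib.Chev.TwMult

open Subgroup MultW
open scoped commutatorElement

universe u

section General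

variable {G Γ : Type u} [Group G] [Group Γ] {σ : Γ →* G}

/-- The elements whose preimages commute with those of `h`. -/
def lc (hs : Function.Surjective σ) (hc : σ.ker ≤ center Γ) (h : G) : Subgroup G where
  carrier := {g | LComm σ g h}
  one_mem' := lcomm_symm (lcomm_one hs hc h)
  mul_mem' := fun a b => lcomm_mul hs a b
  inv_mem' := fun {g} (hg : LComm σ g h) A B eA eB => by
    have h1 : Commute A⁻¹ B := hg A⁻¹ B (by rw [map_inv, eA, inv_inv]) eB
    exact Commute.inv_left_iff.1 h1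

theorem mem_lc {hs : Function.Surjective σ} {hc : σ.ker ≤ center Γ} {g h : G} : g ∈ lc hs hc h ↔ LComm σ g h := Iff.rfl

theorem lcomm_conj (hs : Function.Surjective σ) {g h : G} (n : G) (e : LComm σ g h) :
    LComm σ (n * g * n⁻¹) (n * h * n⁻¹) := by
  intro A B hA hB
  obtain ⟨N, hN⟩ := hs n
  have h1 := e (N⁻¹ * A * N) (N⁻¹ * B * N) (by rw [map_mul, map_mul, map_inv, hN, hA]; group)
    (by rw [map_mul, map_mul, map_inv, hN, hB]; group)
  calc A * B = N * (N⁻¹ * A * N * (N⁻¹ * B * N)) * N⁻¹ := by group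
    _ = N * (N⁻¹ * B * N * (N⁻¹ * A * N)) * N⁻¹ := by rw [h1]
    _ = B * A := by group

/-- Conjugation keeps a span once the commutators fall below. -/
theorem conj_mem_span {K : Type*} (L : ℕ → K → Γ) (x : Γ) (k : ℕ)
    (hx : ∀ m < k, ∀ b, ⁅x, L m b⁆ ∈ spanBelow L k) :
    ∀ w ∈ spanBelow L k, x * w * x⁻¹ ∈ spanBelow L k := by
  intro w hw
  have hle : spanBelow L k ≤ (spanBelow L k).comap (MulAut.conj x).toMonoidHom := by
    refine (closure_le _).2 ?_
    rintro _ ⟨m, hm, b, rfl⟩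
    show x * L m b * x⁻¹ ∈ spanBelow L k
    rw [show x * L m b * x⁻¹ = ⁅x, L m b⁆ * L m b by rw [commutatorElement_def]; group]
    exact mul_mem (hx m hm b) (mem_spanBelow hm b)
  exact hle hw

/-- A span of lifts closed from the top meets the kernel trivially. -/
theorem span_meet {K : Type*} [AddGroup K] {X : ℕ → K → G} {L : ℕ → K → Γ} {N : ℕ}
    (hmap : ∀ k < N, ∀ a, σ (L k a) = X k a) (hadd : ∀ k < N, ∀ a b, L k (a + b) = L k a * L k b)
    (hone : ∀ k < N, ∀ a, X k a = 1 → L k a = 1)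
    (hcl : ∀ j < N, ∀ k < j, ∀ a b, ⁅L j a, L k b⁆ ∈ spanBelow L k)
    (hinj : ∀ j < N, ∀ a, X j a ∈ spanBelow X j → X j a = 1) :
    ∀ j ≤ N, spanBelow L j ⊓ σ.ker = ⊥ := by
  intro j
  induction j with
  | zero =>
    intro _
    rw [spanBelow, show {g : Γ | ∃ k < 0, ∃ a, L k a = g} = ∅ from
      Set.eq_empty_iff_forall_notMem.2 fun g ⟨k, hk, _⟩ => absurd hk (Nat.not_lt_zero _), Subgroup.closure_empty, bot_inf_eq]
  | succ j ih =>
    intro hjN
    have hdis := ih (Nat.le_of_succ_le hjN)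
    have hj : j < N := hjN
    have hzero : ∀ k < N, L k 0 = 1 := fun k hk => by
      have := hadd k hk 0 0
      rwa [add_zero, left_eq_mul] at this
    have hinv : ∀ k < N, ∀ a, (L k a)⁻¹ = L k (-a) := fun k hk a =>
      inv_eq_of_mul_eq_one_right (by rw [← hadd k hk, add_neg_cancel, hzero k hk])
    refine eq_bot_iff.2 fun x ⟨hx, hxk⟩ => ?_
    let R : Set Γ := {g | ∃ w ∈ spanBelow L j, ∃ a, g = w * L j a}
    have hmul : ∀ g ∈ R, ∀ k ≤ j, ∀ a, g * L k a ∈ R := by
      rintro g ⟨w, hw, b, rfl⟩ k hk a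
      rcases hk.lt_or_eq with hlt | rfl
      · refine ⟨w * (L j b * L k a * (L j b)⁻¹), mul_mem hw
          (conj_mem_span L _ j (fun m hm b' => spanBelow_mono hm.le (hcl j hj m hm b b')) _ (mem_spanBelow hlt a)), b, ?_⟩
        group
      · exact ⟨w, hw, b + a, by rw [hadd k hj, mul_assoc]⟩
    have hR : x ∈ R := by
      refine Subgroup.closure_induction_right (p := fun g _ => g ∈ R) ?_ ?_ ?_ hx
      · exact ⟨1, one_mem _, 0, by rw [hzero j hj, one_mul]⟩
      · rintro g y _ ⟨k, hk, a, rfl⟩ hg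
        exact hmul g hg k (Nat.lt_succ_iff.1 hk) a
      · rintro g y _ ⟨k, hk, a, rfl⟩ hg
        rw [hinv k (lt_of_le_of_lt (Nat.lt_succ_iff.1 hk) hj) a]
        exact hmul g hg k (Nat.lt_succ_iff.1 hk) _
    obtain ⟨w, hw, a, rfl⟩ := hR
    replace hxk : σ (w * L j a) = 1 := hxk
    rw [map_mul, hmap j hj] at hxk
    have hmem : X j a ∈ spanBelow X j := by
      rw [← map_spanBelow σ (N := N) hj.le hmap]
      exact ⟨w⁻¹, inv_mem hw, by rw [map_inv]; exact inv_eq_of_mul_eq_one_right hxk⟩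
    show w * L j a ∈ (⊥ : Subgroup Γ)
    rw [hone j hj a (hinj j hj a hmem), mul_one, Subgroup.mem_bot]
    rw [hinj j hj a hmem, mul_one] at hxk
    exact mem_bot.1 (hdis ▸ (⟨hw, hxk⟩ : w ∈ spanBelow L j ⊓ σ.ker))

/-- Commutators of a generated subgroup lie in a normalised subgroup containing those of the generators. -/
theorem commutator_closure_le [Finite Γ] {S : Set Γ} {M : Subgroup Γ} (hn : ∀ s ∈ S, ∀ w ∈ M, s * w * s⁻¹ ∈ M)
    (hS : ∀ s ∈ S, ∀ t ∈ S, ⁅s, t⁆ ∈ M) : ⁅closure S, closure S⁆ ≤ M := by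
  have hN : ∀ x ∈ closure S, ∀ w ∈ M, x * w * x⁻¹ ∈ M := by
    intro x hx
    induction hx using Subgroup.closure_induction with
    | mem x hx => exact hn x hx
    | one => intro w hw; simpa using hw
    | mul a b _ _ ha hb =>
      intro w hw
      rw [show a * b * w * (a * b)⁻¹ = a * (b * w * b⁻¹) * a⁻¹ by group]
      exact ha _ (hb w hw)
    | inv a _ ha =>
      have hp : ∀ n : ℕ, ∀ w ∈ M, a ^ n * w * (a ^ n)⁻¹ ∈ M := by
        intro n
        induction n with
        | zero => intro w hw; simpa using hw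
        | succ n ih =>
          intro w hw
          rw [show a ^ (n + 1) * w * (a ^ (n + 1))⁻¹ = a ^ n * (a * w * a⁻¹) * (a ^ n)⁻¹ by rw [pow_succ]; group]
          exact ih _ (ha w hw)
      have e : a⁻¹ = a ^ (orderOf a - 1) := inv_eq_of_mul_eq_one_right (by
        rw [← pow_succ', Nat.sub_add_cancel (orderOf_pos a), pow_orderOf_eq_one])
      intro w hw
      rw [e]; exact hp _ w hw
  have step : ∀ t, (∀ s ∈ S, ⁅s, t⁆ ∈ M) → ∀ x ∈ closure S, ⁅x, t⁆ ∈ M := by
    intro t ht x hx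
    induction hx using Subgroup.closure_induction with
    | mem x hx => exact ht x hx
    | one => rw [commutatorElement_one_left]; exact one_mem _
    | mul a b ha _ h1 h2 =>
      rw [show ⁅a * b, t⁆ = a * ⁅b, t⁆ * a⁻¹ * ⁅a, t⁆ by simp only [commutatorElement_def]; group]
      exact mul_mem (hN a ha _ h2) h1
    | inv a ha h =>
      rw [show ⁅a⁻¹, t⁆ = a⁻¹ * ⁅a, t⁆⁻¹ * a⁻¹⁻¹ by simp only [commutatorElement_def]; group]
      exact hN _ (inv_mem ha) _ (inv_mem h)
  rw [commutator_le]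
  intro x hx y hy
  refine step y (fun s hs => ?_) x hx
  rw [← commutatorElement_inv]
  exact inv_mem (step s (fun t ht => hS t ht s hs) y hy)

end General

namespace Tri

open Cfsg.Lie

section Field

variable {K : Type*} [Field K] [Fintype K] (M : Frame K)

theorem card_eight (h2 : M.q = 2) : Fintype.card K = 8 := by rw [M.hK, h2]; norm_num

theorem charP_two (h2 : M.q = 2) : CharP K 2 := by
  haveI : Fact (Nat.Prime 2) := ⟨Nat.prime_two⟩
  exact charP_of_card_eq_prime_pow (f := 3) (by rw [card_eight M h2]; norm_num)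

theorem pow_seven (h2 : M.q = 2) {a : K} (ha : a ≠ 0) : a ^ 7 = 1 := by
  have := FiniteField.pow_card_sub_one_eq_one a ha
  rwa [card_eight M h2] at this

theorem fix_cases (h2 : M.q = 2) {c : K} (hc : M.f c = c) : c = 0 ∨ c = 1 := by
  rw [M.pow, h2] at hc
  have : c * (c - 1) = 0 := by linear_combination hc
  rcases mul_eq_zero.1 this with h | h
  exacts [Or.inl h, Or.inr (sub_eq_zero.1 h)]

/-- The torus parameter of a field element. -/
def parOf (a : Kˣ) : Par M := ⟨(a, 1), map_one M.f⟩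

/-- The weight exponents. -/
def wexp : ℕ → ℕ
  | 2 => 3
  | 3 => 4
  | 5 => 2
  | _ => 0

theorem lam_two (h2 : M.q = 2) (a : Kˣ) : ∀ j < 6, lam M (parOf M a) j = (a : K) ^ wexp j := by
  obtain ⟨e0, e1, e2, e3, e4, e5⟩ := lam_eq M (parOf M a)
  have h7 := pow_seven M h2 a.ne_zero
  have hp1 : ((parOf M a).1.1 : K) = a := rfl
  have hp2 : ((parOf M a).1.2 : K) = 1 := rfl
  simp only [hp1, hp2, M.pow, h2, ← pow_mul, div_one, one_mul, one_pow, one_div] at e0 e1 e2 e3 e4 e5
  have hn : (a : K) * (a : K) ^ 2 * (a : K) ^ (2 * 2) = 1 := by rw [← h7]; ring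
  intro j hj
  interval_cases j
  · simpa [wexp] using e0
  · rw [e1, hn]; simp [wexp]
  · rw [e2, wexp]; field_simp
  · rw [e3, wexp, div_eq_iff (by simp)]; linear_combination -((a : K) ^ 2) * h7
  · rw [e4, hn]; simp [wexp]
  · simpa [wexp] using e5

theorem wexp_pairs : ∀ jk ∈ [(5, 5), (3, 3), (2, 2), (5, 0), (5, 1), (3, 0), (3, 1), (2, 0), (2, 1), (2, 4), (3, 4), (5, 3)],
    ∀ m ∈ [1, 2, 4], (wexp jk.1 * m + wexp jk.2) % 7 ≠ 0 := by decide

theorem tor_sq (a : Kˣ) : tor M (parOf M (a * a)) = tor M (parOf M a) * tor M (parOf M a) := by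
  refine Subtype.ext ?_
  show torusHom chevD4 tblD4 K (par M (parOf M (a * a))) =
    torusHom chevD4 tblD4 K (par M (parOf M a)) * torusHom chevD4 tblD4 K (par M (parOf M a))
  rw [← map_mul]
  congr 1
  funext i
  simp only [par, parOf, Pi.mul_apply]
  split_ifs <;> simp

theorem chk_pairs : ∀ jk ∈ [(5, 5), (3, 3), (2, 2), (5, 0), (5, 1), (3, 0), (3, 1), (2, 0), (2, 1), (2, 4), (3, 4)],
    chkTerms tblD4 (orbit jk.1) (orbit jk.2) [] = true := by decide +kernel

theorem X_commute_chk {j k : ℕ} (hj : j < 6) (hk : k < 6) (h : chkTerms tblD4 (orbit j) (orbit k) [] = true) (a b : K) :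
    Commute (X M j a) (X M k b) := by
  have hbot : rootClosure certD4C K ([] : List ℕ) = ⊥ := by
    rw [rootClosure, show {g : GL chevD4.Idx K | ∃ r ∈ ([] : List ℕ), ∃ t : K, g = xg certD4C r t} = ∅ from
      Set.eq_empty_iff_forall_notMem.2 fun g ⟨r, hr, _⟩ => absurd hr List.not_mem_nil, Subgroup.closure_empty]
  have h0 : ∀ A : List ℕ, chkTerms tblD4 A [] [] = true := fun A => by simp [chkTerms]
  have := rootClosure_comm certD4C fullCertD4.comm h (h0 _) (h0 _) (orbit_lt hj) (orbit_lt hk)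
    (fun x hx => absurd hx List.not_mem_nil) (el_mem_closure M j hj a) (el_mem_closure M k hk b)
  rw [hbot, Subgroup.mem_bot, commutatorElement_eq_one_iff_mul_comm] at this
  exact Subtype.ext (by simp only [Subgroup.coe_mul, X_val M hj, X_val M hk]; exact this)

theorem X_zero {j : ℕ} (hj : j < 6) : X M j (0 : K) = 1 :=
  mul_eq_left.1 (by rw [← X_add M hj, add_zero] : X M j 0 * X M j 0 = X M j 0)

theorem tr_of_X_one {j r : ℕ} (hj : j < 6) (he : ∀ v, el M j v = xg certD4C r (tr M v)) (h1 : 12 ≤ r ∧ r < 24)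
    {v : K} (h : X M j v = 1) : tr M v = 0 := by
  have e : el M j v = 1 := by rw [← X_val M hj, h]; rfl
  rw [he] at e
  have := lprod_inj certD4C fullCertD4.comm (l := [r]) (t := fun _ => tr M v) (u := fun _ => (0 : K))
    (List.nodup_singleton r) (fun x hx => by
      rw [List.mem_singleton] at hx; subst hx
      rw [show chevD4.nroots = 24 from rfl]; omega)
    (by simpa [lprod, xg_zero] using e) r (List.mem_singleton_self r)
  exact this

/-- The fundamental reflection of the long root, on two short root groups. -/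
theorem conj_short : ∃ n : ↥(grp M), (∀ v, ∃ v', X M 5 v = n * X M 3 v' * n⁻¹) ∧
    ∀ v, ∃ v', X M 2 v = n * X M 2 v' * n⁻¹ := by
  obtain ⟨n, hn, hfix, hd⟩ := (ok M).rep 1 (by decide)
  have hword : IsWord chevD4 (twD4.lw 1) := twCombD4.lw_word 1 (by decide)
  have hperm : ∀ kl ∈ [(3, 5), (2, 2)], (∀ r ∈ orbit kl.2, r ∈ (orbit kl.1).map (wperm tblD4 (twD4.lw 1))) ∧
      ((orbit kl.1).map (wperm tblD4 (twD4.lw 1))).Nodup ∧
      chkBack tblD4 ((orbit kl.1).map (wperm tblD4 (twD4.lw 1))) = true ∧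
      ∀ r ∈ (orbit kl.1).map (wperm tblD4 (twD4.lw 1)), r < 24 := by decide +kernel
  set g : ↥(grp M) := ⟨n, hn, hfix⟩
  have key : ∀ k l, (k, l) ∈ [(3, 5), (2, 2)] → k < 6 → l < 6 → ∀ v, ∃ v', X M l v = g * X M k v' * g⁻¹ := by
    intro k l hkl hk hl v
    obtain ⟨hsub, hnd, hback, hlt⟩ := hperm _ hkl
    have hmem : ((g⁻¹ * X M l v * g : ↥(grp M)) : GL chevD4.Idx K) ∈ Pset certD4C (orbit k) := by
      refine (mono_conj_pset certD4C hword hd (orbit_lt hk)).2 ?_
      have e : n * ((g⁻¹ * X M l v * g : ↥(grp M)) : GL chevD4.Idx K) * n⁻¹ = (X M l v : GL chevD4.Idx K) := by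
        simp only [Subgroup.coe_mul, InvMemClass.coe_inv, g]; group
      rw [e, X_val M hl]
      exact rootClosure_subset_pset certD4C fullCertD4.comm hback hnd (fun r hr => lt24 (hlt r hr))
        (rootClosure_mono certD4C hsub (el_mem_closure M l hl v))
    obtain ⟨v', hv'⟩ := pset_orbit M hk hmem (g⁻¹ * X M l v * g).2.2
    refine ⟨v', ?_⟩
    have e : g⁻¹ * X M l v * g = X M k v' := Subtype.ext (by rw [hv', X_val M hk])
    rw [← e]; group
  exact ⟨g, key 3 5 (by decide) (by norm_num) (by norm_num), key 2 2 (by decide) (by norm_num) (by norm_num)⟩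

end Field

variable {K : Type u} [Field K] [Fintype K] (M : Frame K)

/-- A single short root group as a chain. -/
noncomputable def oneChain (h2 : M.q = 2) (j : ℕ) (hj : j = 2 ∨ j = 3 ∨ j = 5) : RootChain K ↥(grp M) where
  N := 1
  X := fun _ => X M j
  ι := Kˣ
  t := fun a => tor M (parOf M a)
  lam := fun a _ => lam M (parOf M a) j
  add := fun _ _ => X_add M (by omega)
  comm := fun a b => Subtype.ext (by
    show torusHom chevD4 tblD4 K (par M (parOf M a)) * torusHom chevD4 tblD4 K (par M (parOf M b)) =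
      torusHom chevD4 tblD4 K (par M (parOf M b)) * torusHom chevD4 tblD4 K (par M (parOf M a))
    rw [← map_mul, ← map_mul, mul_comm])
  conj := fun a _ _ v => Subtype.ext (by
    rw [Subgroup.coe_mul, Subgroup.coe_mul, InvMemClass.coe_inv, X_val M (show j < 6 by omega),
      X_val M (show j < 6 by omega)]
    exact tor_el M _ (show j < 6 by omega) v)
  moved := fun _ _ => by
    obtain ⟨g, hg⟩ := IsCyclic.exists_ofOrder_eq_natCard (α := Kˣ)
    rw [Nat.card_units, Nat.card_eq_fintype_card, card_eight M h2] at hg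
    refine ⟨g, fun e => ?_⟩
    rw [lam_two M h2 g j (by omega)] at e
    have hd := orderOf_dvd_of_pow_eq_one (x := g) (n := wexp j)
      (Units.ext (by rw [Units.val_pow_eq_pow_val, e, Units.val_one]))
    rw [hg] at hd
    rcases hj with rfl | rfl | rfl <;> revert hd <;> decide
  closed := fun j' hj' k hk => absurd hk (by omega)
  inj := fun j' hj' a h => by
    have : j' = 0 := by omega
    subst this
    rwa [spanBelow_zero, Subgroup.mem_bot] at h

/-- No stem extension of ³D₄(2) with kernel of order two. -/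
theorem two_part (h2 : M.q = 2) {Γ : Type u} [Group Γ] [Finite Γ]
    (σ : Γ →* ↥(grp M)) (hs : Function.Surjective σ) (hc : σ.ker ≤ Subgroup.center Γ) (hcard : Nat.card σ.ker = 2) :
    ¬ σ.ker ≤ commutator Γ := by
  classical
  haveI hp : Fact (Nat.Prime 2) := ⟨Nat.prime_two⟩
  haveI : CharP K 2 := charP_two M h2
  letI : CommGroup ↥σ.ker := { (inferInstance : Group ↥σ.ker) with
    mul_comm := fun x y => Subtype.ext (mem_center_comm hc y.2 x) }
  obtain ⟨g, hg⟩ := IsCyclic.exists_ofOrder_eq_natCard (α := Kˣ)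
  rw [Nat.card_units, Nat.card_eq_fintype_card, card_eight M h2] at hg
  have hconj : ∀ (a : Kˣ) j, j < 6 → ∀ v,
      tor M (parOf M a) * X M j v * (tor M (parOf M a))⁻¹ = X M j ((a : K) ^ wexp j * v) := fun a j hj v => by
    rw [← lam_two M h2 a j hj]
    exact Subtype.ext (by
      rw [Subgroup.coe_mul, Subgroup.coe_mul, InvMemClass.coe_inv, X_val M hj, X_val M hj]
      exact tor_el M _ hj v)
  have hne : ∀ jk ∈ [(5, 5), (3, 3), (2, 2), (5, 0), (5, 1), (3, 0), (3, 1), (2, 0), (2, 1), (2, 4), (3, 4), (5, 3)],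
      ∀ e : ℕ, ((g : K) ^ wexp jk.1) ^ 2 ^ e * (g : K) ^ wexp jk.2 ≠ 1 := by
    intro jk hjk e h
    rw [← pow_mul, ← pow_add] at h
    have hd : (7 : ℕ) ∣ wexp jk.1 * 2 ^ e + wexp jk.2 := by
      have := orderOf_dvd_of_pow_eq_one (x := g) (n := wexp jk.1 * 2 ^ e + wexp jk.2)
        (Units.ext (by rw [Units.val_pow_eq_pow_val, h, Units.val_one]))
      rwa [hg] at this
    have hm : (2 ^ e) % 7 ∈ [1, 2, 4] := by
      rw [← Nat.div_add_mod e 3, pow_add, pow_mul, Nat.mul_mod, Nat.pow_mod]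
      have : e % 3 < 3 := Nat.mod_lt _ (by norm_num)
      interval_cases e % 3 <;> simp
    refine wexp_pairs jk hjk _ hm ?_
    rw [Nat.add_mod, Nat.mul_mod, Nat.mod_mod, ← Nat.mul_mod, ← Nat.add_mod]
    exact Nat.mod_eq_zero_of_dvd hd
  have hgne : ∀ n, (g : K) ^ n ≠ 0 := fun n => pow_ne_zero _ g.ne_zero
  -- pairs separated by weights
  have hw : ∀ j k, (j, k) ∈ [(5, 5), (3, 3), (2, 2), (5, 0), (5, 1), (3, 0), (3, 1), (2, 0), (2, 1), (2, 4), (3, 4)] →
      ∀ a b, X M j a ∈ lc hs hc (X M k b) := by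
    intro j k hjk
    have hj : j < 6 ∧ k < 6 := by
      exact (show ∀ x ∈ [(5, 5), (3, 3), (2, 2), (5, 0), (5, 1), (3, 0), (3, 1), (2, 0), (2, 1), (2, 4), ((3, 4) : ℕ × ℕ)],
        x.1 < 6 ∧ x.2 < 6 by decide) _ hjk
    refine lcomm_pair hs hc 2 (X M j) (X M k) (tor M (parOf M g))
      (fun a b => X_commute_chk M hj.1 hj.2 (chk_pairs _ hjk) a b)
      (fun a a' => ⟨1, fun b => lcomm_symm (lcomm_one hs hc _), by rw [mul_one, X_add M hj.1]⟩)
      (fun a b => X_add M hj.2 a b) (hconj g j hj.1) (hconj g k hj.2) (hgne _) ?_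
    exact hne (j, k) ((show ∀ x ∈ [(5, 5), (3, 3), (2, 2), (5, 0), (5, 1), (3, 0), (3, 1), (2, 0), (2, 1), (2, 4), (3, 4)],
      x ∈ [(5, 5), (3, 3), (2, 2), (5, 0), (5, 1), (3, 0), (3, 1), (2, 0), (2, 1), (2, 4), (3, 4), ((5, 3) : ℕ × ℕ)] by decide) _ hjk)
  have hsym : ∀ {x y : ↥(grp M)}, x ∈ lc hs hc y → y ∈ lc hs hc x := fun h => lcomm_symm h
  -- the long root groups
  have h00 : ∀ a b, X M 0 a ∈ lc hs hc (X M 0 b) := fun a b => by
    rw [← comm_DC M a, commutatorElement_def]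
    exact mul_mem (mul_mem (mul_mem (hw 3 0 (by decide) 1 b) (hw 2 0 (by decide) a b))
      (inv_mem (hw 3 0 (by decide) 1 b))) (inv_mem (hw 2 0 (by decide) a b))
  have h10 : ∀ a b, X M 1 a ∈ lc hs hc (X M 0 b) := fun a b => by
    rw [← comm_AC M a, commutatorElement_def]
    exact mul_mem (mul_mem (mul_mem (hw 5 0 (by decide) 1 b) (hw 2 0 (by decide) a b))
      (inv_mem (hw 5 0 (by decide) 1 b))) (inv_mem (hw 2 0 (by decide) a b))
  have h11 : ∀ a b, X M 1 a ∈ lc hs hc (X M 1 b) := fun a b => by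
    rw [← comm_AC M a, commutatorElement_def]
    exact mul_mem (mul_mem (mul_mem (hw 5 1 (by decide) 1 b) (hw 2 1 (by decide) a b))
      (inv_mem (hw 5 1 (by decide) 1 b))) (inv_mem (hw 2 1 (by decide) a b))
  have h04 : ∀ a b, X M 0 a ∈ lc hs hc (X M 4 b) := fun a b => by
    rw [← comm_DC M a, commutatorElement_def]
    exact mul_mem (mul_mem (mul_mem (hw 3 4 (by decide) 1 b) (hw 2 4 (by decide) a b))
      (inv_mem (hw 3 4 (by decide) 1 b))) (inv_mem (hw 2 4 (by decide) a b))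
  have hspan2 : ∀ {h : ↥(grp M)}, (∀ b, X M 0 b ∈ lc hs hc h) → (∀ b, X M 1 b ∈ lc hs hc h) →
      ∀ w ∈ spanBelow (X M) 2, w ∈ lc hs hc h := by
    intro h e0 e1 w hw2
    refine (Subgroup.closure_le _).2 ?_ hw2
    rintro _ ⟨k, hk, b, rfl⟩
    interval_cases k
    exacts [e0 b, e1 b]
  -- commuting elements of the two highest short root groups
  have core : ∀ v, tr M v = 0 → LComm σ (X M 3 1) (X M 2 v) := by
    intro v hv
    obtain ⟨w, hw2, ev⟩ := conj_AD M v
    obtain ⟨w', hw2', e1⟩ := conj_AD M (1 : K)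
    rw [show M.f v + M.f (M.f v) = v from (CharTwo.add_eq_zero.1 (by rw [← hv, tr]; ring)).symm] at ev
    rw [map_one, map_one, CharTwo.add_self_eq_zero, X_zero M (by norm_num : 2 < 6), mul_one] at e1
    have k1 : LComm σ (X M 3 v * X M 2 v * w) (X M 3 1 * w') := by
      rw [← ev, ← e1]
      exact lcomm_conj hs _ (hw 3 3 (by decide) v 1)
    have lw : ∀ (j : ℕ), j = 2 ∨ j = 3 → ∀ (a : K), ∀ x ∈ spanBelow (X M) 2, X M j a ∈ lc hs hc x := by
      intro j hj a x hx
      refine hsym (hspan2 (fun b => hsym ?_) (fun b => hsym ?_) x hx)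
      · rcases hj with rfl | rfl
        exacts [hw 2 0 (by decide) a b, hw 3 0 (by decide) a b]
      · rcases hj with rfl | rfl
        exacts [hw 2 1 (by decide) a b, hw 3 1 (by decide) a b]
    have k2 : X M 3 v * X M 2 v * w ∈ lc hs hc w' := by
      refine mul_mem (mul_mem (lw 3 (Or.inr rfl) v w' hw2') (lw 2 (Or.inl rfl) v w' hw2')) ?_
      refine hspan2 (fun b => hsym ?_) (fun b => hsym ?_) w hw2
      · exact hspan2 (fun c => h00 c b) (fun c => h10 c b) w' hw2'
      · exact hspan2 (fun c => hsym (h10 b c)) (fun c => h11 c b) w' hw2'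
    have k3 : X M 3 1 ∈ lc hs hc (X M 3 v * X M 2 v * w) := by
      rw [show X M 3 1 = X M 3 1 * w' * w'⁻¹ by group]
      exact mul_mem (hsym k1) (inv_mem (hsym k2))
    have k4 : X M 2 v ∈ lc hs hc (X M 3 1) := by
      rw [show X M 2 v = (X M 3 v)⁻¹ * (X M 3 v * X M 2 v * w) * w⁻¹ by group]
      exact mul_mem (mul_mem (inv_mem (hw 3 3 (by decide) v 1)) (hsym k3)) (inv_mem (hsym (lw 3 (Or.inr rfl) 1 w hw2)))
    exact hsym k4
  have hscale : ∀ a : K, a ≠ 0 → ∀ b, ∃ (t : Kˣ) (b' : K),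
      X M 3 a = tor M (parOf M t) * X M 3 1 * (tor M (parOf M t))⁻¹ ∧
      X M 2 b = tor M (parOf M t) * X M 2 b' * (tor M (parOf M t))⁻¹ := by
    intro a ha b
    refine ⟨Units.mk0 (a ^ 2) (pow_ne_zero 2 ha), b * ((a ^ 2) ^ wexp 2)⁻¹, ?_, ?_⟩
    · rw [hconj _ 3 (by norm_num), mul_one, Units.val_mk0, wexp]
      congr 1
      linear_combination -a * pow_seven M h2 ha
    · rw [hconj _ 2 (by norm_num), Units.val_mk0, mul_comm b, mul_inv_cancel_left₀ (pow_ne_zero _ (pow_ne_zero 2 ha))]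
  have hDC : ∀ a b, Commute (X M 3 a) (X M 2 b) → LComm σ (X M 3 a) (X M 2 b) := by
    intro a b hab
    by_cases ha : a = 0
    · rw [ha, X_zero M (by norm_num : 3 < 6)]; exact lcomm_symm (lcomm_one hs hc _)
    obtain ⟨t, b', e3, e2⟩ := hscale a ha b
    rw [e3, e2] at hab ⊢
    refine lcomm_conj hs _ (core b' (tr_of_X_one M (j := 0) (r := 23) (by norm_num) (fun _ => rfl) (by norm_num) ?_))
    rw [← comm_DC M b', commutatorElement_eq_one_iff_mul_comm]
    exact (Commute.conj_iff _).1 hab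
  have coreA : ∀ v, tr M v = 0 → LComm σ (X M 5 1) (X M 2 v) := by
    intro v hv
    obtain ⟨n, hn3, hn2⟩ := conj_short M
    obtain ⟨a', ea⟩ := hn3 1
    obtain ⟨b', eb⟩ := hn2 v
    rw [ea, eb]
    refine lcomm_conj hs n (hDC a' b' ?_)
    have : Commute (X M 5 1) (X M 2 v) := by
      refine commutatorElement_eq_one_iff_mul_comm.1 ?_
      rw [comm_AC M v]
      refine Subtype.ext ?_
      rw [X_val M (by norm_num : 1 < 6)]
      simp [el, hv, xg_zero]
    rw [ea, eb] at this
    exact (Commute.conj_iff _).1 this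
  -- the lifts
  let L : ℕ → K → Γ := fun k v =>
    if k = 0 then br hs (X M 3 1) (X M 2 v) else if k = 1 then br hs (X M 5 1) (X M 2 v)
    else if h : k = 2 ∨ k = 3 ∨ k = 5 then (oneChain M h2 k h).lift hs 0 v else 1
  have hL0 : ∀ v, L 0 v = br hs (X M 3 1) (X M 2 v) := fun v => rfl
  have hL1 : ∀ v, L 1 v = br hs (X M 5 1) (X M 2 v) := fun v => rfl
  have hLs : ∀ k (h : k = 2 ∨ k = 3 ∨ k = 5) v, L k v = (oneChain M h2 k h).lift hs 0 v := fun k h v => by
    show (if k = 0 then _ else if k = 1 then _ else if h : k = 2 ∨ k = 3 ∨ k = 5 then _ else _) = _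
    rw [if_neg (by omega), if_neg (by omega), dif_pos h]
  have hself : ∀ k, k = 2 ∨ k = 3 ∨ k = 5 → ∀ a b, LComm σ (X M k a) (X M k b) := by
    rintro k (rfl | rfl | rfl)
    exacts [hw 2 2 (by decide), hw 3 3 (by decide), hw 5 5 (by decide)]
  have hmap : ∀ k < 6, k ≠ 4 → ∀ a, σ (L k a) = X M k a := by
    intro k hk hk4 a
    by_cases h : k = 2 ∨ k = 3 ∨ k = 5
    · rw [hLs k h]; exact (oneChain M h2 k h).map_lift hs hc (Nat.zero_lt_one) a
    · interval_cases k
      · rw [hL0, map_br hs hc, comm_DC]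
      · rw [hL1, map_br hs hc, comm_AC]
      all_goals omega
  have hlong : ∀ (g₁ : ↥(grp M)) (l : ℕ), (∀ v, ⁅g₁, X M 2 v⁆ = X M l v) →
      (∀ a b, X M 2 a ∈ lc hs hc (X M l b)) → ∀ a b,
      br hs g₁ (X M 2 (a + b)) = br hs g₁ (X M 2 a) * br hs g₁ (X M 2 b) := by
    intro g₁ l hg₁ hl a b
    rw [X_add M (by norm_num), br_mul_right hs hc]
    congr 1
    exact mul_inv_eq_of_eq_mul (hl a b _ _ (hs _).choose_spec (by rw [map_br hs hc, hg₁]))
  have hadd : ∀ k < 6, k ≠ 4 → ∀ a b, L k (a + b) = L k a * L k b := by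
    intro k hk hk4 a b
    by_cases h : k = 2 ∨ k = 3 ∨ k = 5
    · simp only [hLs k h]
      exact (oneChain M h2 k h).lift_add hs hc Nat.zero_lt_one (hself k h) a b
    · interval_cases k
      · simp only [hL0]; exact hlong _ 0 (comm_DC M) (hw 2 0 (by decide)) a b
      · simp only [hL1]; exact hlong _ 1 (comm_AC M) (hw 2 1 (by decide)) a b
      all_goals omega
  have hone : ∀ k < 6, k ≠ 4 → ∀ a, X M k a = 1 → L k a = 1 := by
    intro k hk hk4 a ha
    by_cases h : k = 2 ∨ k = 3 ∨ k = 5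
    · rw [hLs k h]; exact (oneChain M h2 k h).lift_eq_one hs hc Nat.zero_lt_one ha
    · interval_cases k
      · rw [hL0, br_eq_one_iff hs hc]
        exact core a (tr_of_X_one M (by norm_num) (fun _ => rfl) (by norm_num) ha)
      · rw [hL1, br_eq_one_iff hs hc]
        exact coreA a (tr_of_X_one M (by norm_num) (fun _ => rfl) (by norm_num) ha)
      all_goals omega
  -- torus action
  have hTshort : ∀ k (h : k = 2 ∨ k = 3 ∨ k = 5) (t : Kˣ) (T : Γ), σ T = tor M (parOf M t) → ∀ a,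
      T * L k a * T⁻¹ = L k ((t : K) ^ wexp k * a) := by
    intro k h t T hT a
    simp only [hLs k h]
    rw [← lam_two M h2 t k (by omega)]
    exact (oneChain M h2 k h).lift_conj hs hc Nat.zero_lt_one t a T hT
  have hTlong : ∀ k, k < 2 → ∀ (t : Kˣ) (T : Γ), σ T = tor M (parOf M t) → ∀ a, T * L k a * T⁻¹ = L k a := by
    intro k hk t T hT a
    have hsq : L k a * L k a = 1 := by
      rw [← hadd k (by omega) (by omega), CharTwo.add_self_eq_zero]
      exact hone k (by omega) (by omega) 0 (X_zero M (by omega))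
    obtain ⟨S, hS⟩ := hs (tor M (parOf M (t ^ 4)))
    have h8 : t ^ 4 * t ^ 4 = t := by
      have e7 : t ^ 7 = 1 :=
        Units.ext (by rw [Units.val_pow_eq_pow_val]; exact pow_seven M h2 t.ne_zero)
      rw [← pow_add, show (4 + 4) = 7 + 1 by norm_num, pow_succ, e7, one_mul]
    have hz : T * (S * S)⁻¹ ∈ σ.ker := by
      rw [MonoidHom.mem_ker, map_mul, map_inv, map_mul, hS, ← tor_sq, h8, hT, mul_inv_cancel]
    set c := S * L k a * S⁻¹ * (L k a)⁻¹ with hcdef
    have hck : c ∈ σ.ker := by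
      rw [MonoidHom.mem_ker, hcdef, map_mul, map_mul, map_mul, map_inv, map_inv, hS, hmap k (by omega) (by omega),
        hconj _ k (by omega)]
      rw [show wexp k = 0 by interval_cases k <;> rfl, pow_zero, one_mul, mul_inv_cancel]
    have e : S * L k a * S⁻¹ = c * L k a := by rw [hcdef]; group
    have hc2 : c * c = 1 := by
      have h1 : (S * L k a * S⁻¹) * (S * L k a * S⁻¹) = 1 := by
        rw [show (S * L k a * S⁻¹) * (S * L k a * S⁻¹) = S * (L k a * L k a) * S⁻¹ by group, hsq, mul_one, mul_inv_cancel]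
      rw [e, show c * L k a * (c * L k a) = c * (L k a * c) * L k a by group, mem_center_comm hc hck,
        show c * (c * L k a) * L k a = c * c * (L k a * L k a) by group, hsq, mul_one] at h1
      exact h1
    calc T * L k a * T⁻¹ = (T * (S * S)⁻¹) * (S * S * L k a * (S * S)⁻¹) * (T * (S * S)⁻¹)⁻¹ := by group
      _ = S * S * L k a * (S * S)⁻¹ := by rw [← mem_center_comm hc hz, mul_inv_cancel_right]
      _ = S * c * (L k a) * S⁻¹ := by
        rw [show S * S * L k a * (S * S)⁻¹ = S * (S * L k a * S⁻¹) * S⁻¹ by group, e, ← mul_assoc]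
      _ = c * (S * L k a * S⁻¹) := by rw [mem_center_comm hc hck S]; group
      _ = L k a := by rw [e, ← mul_assoc, hc2, one_mul]
  have hLcomm : ∀ j k, j < 6 → j ≠ 4 → k < 6 → k ≠ 4 → (∀ a b, X M j a ∈ lc hs hc (X M k b)) →
      ∀ a b, ⁅L j a, L k b⁆ = 1 := fun j k hj hj4 hk hk4 h a b =>
    commutatorElement_eq_one_iff_mul_comm.2 (h a b _ _ (hmap j hj hj4 a) (hmap k hk hk4 b))
  -- commutators with the middle short root group
  have hshortTwo : ∀ j (hj : j = 3 ∨ j = 5) (l : ℕ), l < 2 → (∀ v, L l v = br hs (X M j 1) (X M 2 v)) →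
      ∀ a b, ⁅L j a, L 2 b⁆ ∈ spanBelow L 2 := by
    intro j hj l hl hLl a b
    by_cases ha : a = 0
    · rw [ha, hone j (by omega) (by omega) 0 (X_zero M (by omega)), commutatorElement_one_left]; exact one_mem _
    obtain ⟨t, ht⟩ : ∃ t : Kˣ, (t : K) ^ wexp j = a := by
      rcases hj with rfl | rfl
      · exact ⟨Units.mk0 (a ^ 2) (pow_ne_zero 2 ha), by
          rw [Units.val_mk0, wexp]; linear_combination a * pow_seven M h2 ha⟩
      · exact ⟨Units.mk0 (a ^ 4) (pow_ne_zero 4 ha), by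
          rw [Units.val_mk0, wexp]; linear_combination a * pow_seven M h2 ha⟩
    obtain ⟨T, hT⟩ := hs (tor M (parOf M t))
    set b' := b * ((t : K) ^ wexp 2)⁻¹
    have ej : L j a = T * L j 1 * T⁻¹ := by rw [hTshort j (by omega) t T hT, mul_one, ht]
    have e2 : L 2 b = T * L 2 b' * T⁻¹ := by
      rw [hTshort 2 (by omega) t T hT]
      congr 1
      show b = (t : K) ^ wexp 2 * (b * ((t : K) ^ wexp 2)⁻¹)
      rw [mul_comm b, mul_inv_cancel_left₀ (pow_ne_zero _ t.ne_zero)]
    rw [ej, e2, show ⁅T * L j 1 * T⁻¹, T * L 2 b' * T⁻¹⁆ = T * ⁅L j 1, L 2 b'⁆ * T⁻¹ by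
      simp only [commutatorElement_def]; group,
      br_eq hs hc (hmap j (by omega) (by omega) 1) (hmap 2 (by norm_num) (by norm_num) b'), ← hLl, hTlong l hl t T hT]
    exact mem_spanBelow hl b'
  have hcl : ∀ j < 4, ∀ k < j, ∀ a b, ⁅L j a, L k b⁆ ∈ spanBelow L k := by
    intro j hj k hk a b
    have one : ∀ {x : Γ}, x = 1 → x ∈ spanBelow L k := fun e => e ▸ one_mem _
    interval_cases j <;> interval_cases k
    · exact one (hLcomm 1 0 (by norm_num) (by norm_num) (by norm_num) (by norm_num) h10 a b)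
    · exact one (hLcomm 2 0 (by norm_num) (by norm_num) (by norm_num) (by norm_num) (hw 2 0 (by decide)) a b)
    · exact one (hLcomm 2 1 (by norm_num) (by norm_num) (by norm_num) (by norm_num) (hw 2 1 (by decide)) a b)
    · exact one (hLcomm 3 0 (by norm_num) (by norm_num) (by norm_num) (by norm_num) (hw 3 0 (by decide)) a b)
    · exact one (hLcomm 3 1 (by norm_num) (by norm_num) (by norm_num) (by norm_num) (hw 3 1 (by decide)) a b)
    · exact hshortTwo 3 (Or.inl rfl) 0 (by norm_num) hL0 a b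
  have hmeet : ∀ j ≤ 4, spanBelow L j ⊓ σ.ker = ⊥ :=
    span_meet (X := X M) (fun k hk => hmap k (by omega) (by omega)) (fun k hk => hadd k (by omega) (by omega))
      (fun k hk => hone k (by omega) (by omega)) hcl (fun j hj a => inj M (by omega) a)
  have huniq : ∀ {k : ℕ}, k ≤ 4 → ∀ {z z' w w' : Γ}, z ∈ σ.ker → z' ∈ σ.ker → w ∈ spanBelow L k →
      w' ∈ spanBelow L k → z * w = z' * w' → z = z' := by
    intro k hk z z' w w' hz hz' hw hw' e
    have h1 : z'⁻¹ * z = w' * w⁻¹ := by rw [eq_mul_inv_iff_mul_eq, mul_assoc, e, inv_mul_cancel_left]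
    have h2 : z'⁻¹ * z ∈ spanBelow L k ⊓ σ.ker :=
      Subgroup.mem_inf.2 ⟨by rw [h1]; exact Subgroup.mul_mem _ hw' (Subgroup.inv_mem _ hw),
        Subgroup.mul_mem _ (Subgroup.inv_mem _ hz') hz⟩
    rw [hmeet k hk, Subgroup.mem_bot, inv_mul_eq_one] at h2
    exact h2.symm
  have hsplit : ∀ (k : ℕ) (x : Γ), k ≤ 4 → σ x ∈ spanBelow (X M) k → ∃ z ∈ σ.ker, ∃ w ∈ spanBelow L k, x = z * w := by
    intro k x hk hx
    rw [← map_spanBelow σ (N := 4) hk fun m hm a => hmap m (by omega) (by omega) a] at hx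
    obtain ⟨w, hw, e⟩ := hx
    exact ⟨x * w⁻¹, by rw [MonoidHom.mem_ker, map_mul, map_inv, e, mul_inv_cancel], w, hw, (inv_mul_cancel_right _ w).symm⟩
  -- the middle root groups under the simple short root group
  have h5low : ∀ k < 3, ∀ a b, ⁅L 5 a, L k b⁆ ∈ spanBelow L k := by
    intro k hk a b
    have one : ∀ {x : Γ}, x = 1 → x ∈ spanBelow L k := fun e => e ▸ one_mem _
    interval_cases k
    · exact one (hLcomm 5 0 (by norm_num) (by norm_num) (by norm_num) (by norm_num) (hw 5 0 (by decide)) a b)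
    · exact one (hLcomm 5 1 (by norm_num) (by norm_num) (by norm_num) (by norm_num) (hw 5 1 (by decide)) a b)
    · exact hshortTwo 5 (Or.inr rfl) 1 (by norm_num) hL1 a b
  have hnorm5 : ∀ a, ∀ w ∈ spanBelow L 3, L 5 a * w * (L 5 a)⁻¹ ∈ spanBelow L 3 := fun a =>
    conj_mem_span L _ 3 fun m hm b => spanBelow_mono hm.le (h5low m hm a b)
  have hnorm3 : ∀ a, ∀ w ∈ spanBelow L 3, L 3 a * w * (L 3 a)⁻¹ ∈ spanBelow L 3 := fun a =>
    conj_mem_span L _ 3 fun m hm b => spanBelow_mono hm.le (hcl 3 (by norm_num) m hm a b)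
  have hnormT : ∀ k ≤ 4, ∀ (t : Kˣ) (T : Γ), σ T = tor M (parOf M t) →
      ∀ w ∈ spanBelow L k, T * w * T⁻¹ ∈ spanBelow L k := by
    intro k hk t T hT w hw
    have hle : spanBelow L k ≤ (spanBelow L k).comap (MulAut.conj T).toMonoidHom := by
      refine (Subgroup.closure_le _).2 ?_
      rintro _ ⟨m, hm, b, rfl⟩
      show T * L m b * T⁻¹ ∈ spanBelow L k
      by_cases h : m < 2
      · rw [hTlong m h t T hT]; exact mem_spanBelow hm b
      · rw [hTshort m (by omega) t T hT]; exact mem_spanBelow hm _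
    exact hle hw
  have h53 : ∀ a b, ⁅L 5 a, L 3 b⁆ ∈ spanBelow L 3 := by
    have hex : ∀ a b, ∃ z ∈ σ.ker, ∃ w ∈ spanBelow L 3, ⁅L 5 a, L 3 b⁆ = z * w := fun a b =>
      hsplit 3 _ (by norm_num) (by
        rw [map_commutatorElement, hmap 5 (by norm_num) (by norm_num), hmap 3 (by norm_num) (by norm_num)]
        exact closed M (by norm_num) (by norm_num) a b)
    choose z hz w hw' heq using hex
    let c : K → K → ↥σ.ker := fun a b => ⟨z a b, hz a b⟩
    have hl : ∀ a a' b, c (a + a') b = c a b * c a' b := fun a a' b => Subtype.ext (huniq (k := 3) (by norm_num)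
      (hz _ _) (mul_mem (hz _ _) (hz _ _)) (hw' _ _)
      (mul_mem (hnorm5 a _ (hw' a' b)) (hw' a b)) (by
        show z (a + a') b * w (a + a') b = (z a b * z a' b) * _
        rw [← heq, hadd 5 (by norm_num) (by norm_num)]
        rw [show ⁅L 5 a * L 5 a', L 3 b⁆ = L 5 a * ⁅L 5 a', L 3 b⁆ * (L 5 a)⁻¹ * ⁅L 5 a, L 3 b⁆ by
          simp only [commutatorElement_def]; group, heq, heq]
        have c1 := mem_center_comm hc (hz a' b) (L 5 a)
        have c2 : ∀ g, g * z a b = z a b * g := mem_center_comm hc (hz a b)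
        calc L 5 a * (z a' b * w a' b) * (L 5 a)⁻¹ * (z a b * w a b)
            = z a' b * (L 5 a * w a' b * (L 5 a)⁻¹ * z a b) * w a b := by rw [← mul_assoc (L 5 a), c1]; group
          _ = z a' b * z a b * (L 5 a * w a' b * (L 5 a)⁻¹ * w a b) := by rw [c2]; group
          _ = _ := by rw [mem_center_comm hc (hz a b)]))
    have hr : ∀ a b b', c a (b + b') = c a b * c a b' := fun a b b' => Subtype.ext (huniq (k := 3) (by norm_num)
      (hz _ _) (mul_mem (hz _ _) (hz _ _)) (hw' _ _)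
      (mul_mem (hw' a b) (hnorm3 b _ (hw' a b'))) (by
        show z a (b + b') * w a (b + b') = (z a b * z a b') * _
        rw [← heq, hadd 3 (by norm_num) (by norm_num)]
        rw [show ⁅L 5 a, L 3 b * L 3 b'⁆ = ⁅L 5 a, L 3 b⁆ * (L 3 b * ⁅L 5 a, L 3 b'⁆ * (L 3 b)⁻¹) by
          simp only [commutatorElement_def]; group, heq, heq]
        have c1 := mem_center_comm hc (hz a b') (L 3 b)
        calc z a b * w a b * (L 3 b * (z a b' * w a b') * (L 3 b)⁻¹)
            = z a b * (w a b * z a b') * (L 3 b * w a b' * (L 3 b)⁻¹) := by rw [← mul_assoc (L 3 b), c1]; group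
          _ = _ := by rw [mem_center_comm hc (hz a b')]; group))
    obtain ⟨T, hT⟩ := hs (tor M (parOf M g))
    have hinv : ∀ a b, c ((g : K) ^ wexp 5 * a) ((g : K) ^ wexp 3 * b) = c a b := fun a b =>
      Subtype.ext (huniq (k := 3) (by norm_num) (hz _ _) (hz a b) (hw' _ _)
        (hnormT 3 (by norm_num) g T hT _ (hw' a b)) (by
          rw [← heq, ← hTshort 5 (by norm_num) g T hT, ← hTshort 3 (by norm_num) g T hT]
          rw [show ⁅T * L 5 a * T⁻¹, T * L 3 b * T⁻¹⁆ = T * ⁅L 5 a, L 3 b⁆ * T⁻¹ by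
            simp only [commutatorElement_def]; group, heq, ← mul_assoc, mem_center_comm hc (hz a b)]
          show z a b * T * w a b * T⁻¹ = z a b * (T * w a b * T⁻¹)
          group))
    intro a b
    rw [heq, show z a b = 1 from congrArg Subtype.val
      (pair_trivial 2 c hl hr (hgne _) hinv (hne (5, 3) (by decide)) a b), one_mul]
    exact hw' a b
  have hA : ∀ a, ∀ w ∈ spanBelow L 4, L 5 a * w * (L 5 a)⁻¹ ∈ spanBelow L 4 := fun a =>
    conj_mem_span L _ 4 fun m hm b => by
      rcases (show m ≤ 3 by omega).lt_or_eq with h | rfl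
      · exact spanBelow_mono hm.le (h5low m h a b)
      · exact spanBelow_mono hm.le (h53 a b)
  -- the simple long root element
  obtain ⟨v₁, hv₁⟩ := tr_surj M (map_one M.f : M.f (1 : K) = 1)
  obtain ⟨B, hB⟩ := hs (X M 4 v₁)
  have hBA : ∀ a, ⁅L 5 a, B⁆ ∈ spanBelow L 4 := by
    have hex : ∀ a, ∃ z ∈ σ.ker, ∃ w ∈ spanBelow L 4, ⁅L 5 a, B⁆ = z * w := fun a =>
      hsplit 4 _ le_rfl (by
        rw [map_commutatorElement, hmap 5 (by norm_num) (by norm_num), hB]
        exact closed M (by norm_num) (by norm_num) a v₁)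
    choose z hz w hw' heq using hex
    have hmul : ∀ a a', z (a + a') = z a * z a' := fun a a' => huniq (k := 4) le_rfl (hz _)
      (mul_mem (hz _) (hz _)) (hw' _) (mul_mem (hA a _ (hw' a')) (hw' a)) (by
        rw [← heq, hadd 5 (by norm_num) (by norm_num)]
        rw [show ⁅L 5 a * L 5 a', B⁆ = L 5 a * ⁅L 5 a', B⁆ * (L 5 a)⁻¹ * ⁅L 5 a, B⁆ by
          simp only [commutatorElement_def]; group, heq, heq]
        have c2 : ∀ g, g * z a = z a * g := mem_center_comm hc (hz a)
        calc L 5 a * (z a' * w a') * (L 5 a)⁻¹ * (z a * w a)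
            = z a' * (L 5 a * w a' * (L 5 a)⁻¹ * z a) * w a := by
              rw [← mul_assoc (L 5 a), mem_center_comm hc (hz a') (L 5 a)]; group
          _ = z a' * z a * (L 5 a * w a' * (L 5 a)⁻¹ * w a) := by rw [c2]; group
          _ = _ := by rw [mem_center_comm hc (hz a)])
    have hz0 : ∀ a u, a ≠ 0 → u ≠ 0 → z u = z a := by
      intro a u ha hu
      have hua : u / a ≠ 0 := div_ne_zero hu ha
      obtain ⟨t, ht⟩ : ∃ t : Kˣ, (t : K) ^ wexp 5 = u / a := ⟨Units.mk0 ((u / a) ^ 4) (pow_ne_zero 4 hua), by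
        rw [Units.val_mk0, wexp]; linear_combination (u / a) * pow_seven M h2 hua⟩
      obtain ⟨T, hT⟩ := hs (tor M (parOf M t))
      have e5 : L 5 u = T * L 5 a * T⁻¹ := by rw [hTshort 5 (by norm_num) t T hT, ht, div_mul_cancel₀ _ ha]
      have eB : σ (T * B * T⁻¹) = X M 4 v₁ := by
        rw [map_mul, map_mul, map_inv, hT, hB, hconj _ 4 (by norm_num), show wexp 4 = 0 from rfl, pow_zero, one_mul]
      refine huniq (k := 4) le_rfl (hz u) (hz a) (hw' u) (hnormT 4 le_rfl t T hT _ (hw' a)) ?_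
      rw [← heq, br_eq hs hc (hmap 5 (by norm_num) (by norm_num) u) hB,
        ← br_eq hs hc (hmap 5 (by norm_num) (by norm_num) u) eB, e5,
        show ⁅T * L 5 a * T⁻¹, T * B * T⁻¹⁆ = T * ⁅L 5 a, B⁆ * T⁻¹ by simp only [commutatorElement_def]; group,
        heq, ← mul_assoc, mem_center_comm hc (hz a)]
      group
    intro a
    rw [heq]
    refine mul_mem ?_ (hw' a)
    have h0 : z 0 = 1 := by simpa using hmul 0 0
    by_cases ha : a = 0
    · rw [ha, h0]; exact one_mem _
    obtain ⟨u, hu0, hua⟩ : ∃ u : K, u ≠ 0 ∧ u ≠ a := by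
      by_contra hcon
      push Not at hcon
      have h1 : (Finset.univ : Finset K) ⊆ {0, a} := fun x _ => by
        rcases eq_or_ne x 0 with h | h
        · simp [h]
        · simp [hcon x h]
      have := (Finset.card_le_card h1).trans Finset.card_le_two
      rw [Finset.card_univ, card_eight M h2] at this
      omega
    have hau : a + u ≠ 0 := fun e => hua (CharTwo.add_eq_zero.1 e).symm
    have := hmul a u
    rw [hz0 a (a + u) ha hau, hz0 a u ha hu0, left_eq_mul] at this
    rw [this]; exact one_mem _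
  have hB4 : ∀ w ∈ spanBelow L 4, B * w * B⁻¹ ∈ spanBelow L 4 := by
    refine conj_mem_span L _ 4 fun m hm b => ?_
    have hcomm : ∀ k, k < 4 → k ≠ 1 → ⁅B, L k b⁆ = 1 := fun k hk hk1 => by
      have h : X M k b ∈ lc hs hc (X M 4 v₁) := by
        interval_cases k
        · exact h04 b v₁
        · omega
        · exact hw 2 4 (by decide) b v₁
        · exact hw 3 4 (by decide) b v₁
      exact commutatorElement_eq_one_iff_mul_comm.2
        (lcomm_symm h B (L k b) hB (hmap k (by omega) (by omega) b))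
    by_cases hm1 : m = 1
    · subst hm1
      set C := L 2 b
      have eC : B * C * B⁻¹ = C :=
        mul_inv_eq_of_eq_mul (lcomm_symm (hw 2 4 (by decide) b v₁) B C hB (hmap 2 (by norm_num) (by norm_num) b))
      have eL : L 1 b = ⁅L 5 1, C⁆ := by
        rw [hL1, br_eq hs hc (hmap 5 (by norm_num) (by norm_num) 1) (hmap 2 (by norm_num) (by norm_num) b)]
      set w0 := ⁅B, L 5 1⁆
      have hw0 : w0 ∈ spanBelow L 4 := by
        rw [show w0 = ⁅L 5 1, B⁆⁻¹ from (commutatorElement_inv _ _).symm]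
        exact inv_mem (hBA 1)
      have hCm : C ∈ spanBelow L 4 := mem_spanBelow (by norm_num) b
      have e : B * L 1 b * B⁻¹ = w0 * L 1 b * w0⁻¹ * ⁅w0, C⁆ := by
        have e1 : B * ⁅L 5 1, C⁆ * B⁻¹ = ⁅B * L 5 1 * B⁻¹, B * C * B⁻¹⁆ := by
          simp only [commutatorElement_def]; group
        rw [eL, e1, eC]
        simp only [w0, commutatorElement_def]; group
      have hmem : B * L 1 b * B⁻¹ ∈ spanBelow L 4 := by
        rw [e, commutatorElement_def]
        exact mul_mem (mul_mem (mul_mem hw0 (mem_spanBelow (by norm_num) b)) (inv_mem hw0))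
          (mul_mem (mul_mem (mul_mem hw0 hCm) (inv_mem hw0)) (inv_mem hCm))
      rw [commutatorElement_def]
      exact mul_mem hmem (inv_mem (mem_spanBelow (by norm_num) b))
    · rw [hcomm m hm hm1]; exact one_mem _
  -- generators of the preimage of the Sylow subgroup
  let S : Set Γ := (σ.ker : Set Γ) ∪ (spanBelow L 4 : Set Γ) ∪ Set.range (L 5) ∪ {B}
  have hSn : ∀ s ∈ S, ∀ w ∈ spanBelow L 4, s * w * s⁻¹ ∈ spanBelow L 4 := by
    rintro s (((hs' | hs') | ⟨a, rfl⟩) | hs') w hw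
    · rw [← mem_center_comm hc hs' w, mul_inv_cancel_right]; exact hw
    · exact mul_mem (mul_mem hs' hw) (inv_mem hs')
    · exact hA a w hw
    · rw [Set.mem_singleton_iff.1 hs']; exact hB4 w hw
  have hSc : ∀ s ∈ S, ∀ t ∈ S, ⁅s, t⁆ ∈ spanBelow L 4 := by
    intro s hs' t ht
    have inner : ∀ {s w : Γ}, w ∈ spanBelow L 4 → s ∈ S → ⁅s, w⁆ ∈ spanBelow L 4 := fun {s w} hw hs => by
      rw [commutatorElement_def]; exact mul_mem (hSn s hs w hw) (inv_mem hw)
    have swap : ∀ {s t : Γ}, ⁅t, s⁆ ∈ spanBelow L 4 → ⁅s, t⁆ ∈ spanBelow L 4 := fun {s t} h => by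
      rw [← commutatorElement_inv]; exact inv_mem h
    rcases hs' with ((hs' | hs') | ⟨a, rfl⟩) | hs'
    · rw [commutatorElement_eq_one_iff_mul_comm.2 (mem_center_comm hc hs' t).symm]; exact one_mem _
    · exact swap (inner hs' ht)
    all_goals rcases ht with ((ht | ht) | ⟨b, rfl⟩) | ht
    · rw [commutatorElement_eq_one_iff_mul_comm.2 (mem_center_comm hc ht _)]; exact one_mem _
    · exact inner ht (Or.inl (Or.inr ⟨a, rfl⟩))
    · rw [hLcomm 5 5 (by norm_num) (by norm_num) (by norm_num) (by norm_num) (hw 5 5 (by decide)) a b]; exact one_mem _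
    · rw [Set.mem_singleton_iff.1 ht]; exact hBA a
    · rw [commutatorElement_eq_one_iff_mul_comm.2 (mem_center_comm hc ht _)]; exact one_mem _
    · exact inner ht (Or.inr hs')
    · rw [Set.mem_singleton_iff.1 hs']; exact swap (hBA b)
    · rw [Set.mem_singleton_iff.1 hs', Set.mem_singleton_iff.1 ht,
        commutatorElement_eq_one_iff_mul_comm.2 rfl]
      exact one_mem _
  have hle : (spanBelow (X M) 6).comap σ ≤ Subgroup.closure S := by
    intro x hx
    have hmapS : spanBelow (X M) 6 ≤ (Subgroup.closure S).map σ := by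
      refine (Subgroup.closure_le _).2 ?_
      rintro _ ⟨k, hk, a, rfl⟩
      by_cases h4 : k = 4
      · subst h4
        rcases fix_cases M h2 (f_tr M a) with h | h
        · have : X M 4 a = 1 := Subtype.ext (by rw [X_val M (by norm_num : 4 < 6)]; simp [el, h, xg_zero])
          rw [this]; exact one_mem _
        · have : X M 4 a = X M 4 v₁ := Subtype.ext (by
            rw [X_val M (by norm_num : 4 < 6), X_val M (by norm_num : 4 < 6)]; simp [el, h, hv₁])
          rw [this]
          exact ⟨B, Subgroup.subset_closure (Or.inr rfl), hB⟩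
      · refine ⟨L k a, Subgroup.subset_closure ?_, hmap k hk h4 a⟩
        by_cases h5 : k = 5
        · subst h5; exact Or.inl (Or.inr ⟨a, rfl⟩)
        · exact Or.inl (Or.inl (Or.inr (mem_spanBelow (show k < 4 by omega) a)))
    obtain ⟨y, hy, e⟩ := hmapS hx
    rw [show x = x * y⁻¹ * y by group]
    refine mul_mem (Subgroup.subset_closure (Or.inl (Or.inl (Or.inl ?_)))) hy
    show σ (x * y⁻¹) = 1
    rw [map_mul, map_inv, e, mul_inv_cancel]
  -- the Sylow subgroup
  have hc12 : Nat.card ↥(spanBelow (X M) 6) = 2 ^ 12 := by rw [← h2]; exact card_span M 6 le_rfl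
  have hord : Nat.card ↥(grp M) = 2 ^ 12 * ((2 ^ 2 - 1) * (2 ^ 6 - 1) * (2 ^ 8 + 2 ^ 4 + 1)) := by
    rw [← grp_eq M, twistedD4_order M.hq M.hK, h2]; ring
  have hP : IsPGroup 2 ↥(spanBelow (X M) 6) := IsPGroup.of_card (n := 12) hc12
  have hidx : ¬ 2 ∣ (spanBelow (X M) 6).index := by
    have hmul := (spanBelow (X M) 6).card_mul_index
    rw [hc12, hord] at hmul
    rw [Nat.eq_of_mul_eq_mul_left (by norm_num) hmul]
    norm_num
  refine not_le_of_meet hs hc hcard (hP.toSylow hidx) ?_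
  refine eq_bot_iff.2 ((inf_le_inf_right _ ?_).trans (hmeet 4 le_rfl).le)
  exact (Subgroup.commutator_mono hle hle).trans (commutator_closure_le hSn hSc)

end Tri

end Cfsg.Lib.Chev.TwMult
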