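import Cfsg.Agent.Lib.Chev.TwMult.Triality.Roots

/-!
The torus weights of the root groups of ³D₄(q) separate any two of them when `3 ≤ q`.
-/

set_option autoImplicit false
set_option linter.unusedSectionVars false
set_option maxRecDepth 100000

namespace Cfsg.Lib.Chev.TwMult.Tri

open Cfsg.Lie Cfsg.Lib.Chev.TwMult

variable {K : Type*} [Field K] [Fintype K] (M : Frame K)

/-- The index of fixed torus parameters. -/
def Par : Type _ := {p : Kˣ × Kˣ // M.f p.2 = (p.2 : K)}

/-- The parameters. -/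
noncomputable def par (p : Par M) : Fin chevD4.rank → Kˣ := fun i =>
  if i.val = 0 then p.1.1 else if i.val = 1 then p.1.2
  else if i.val = 2 then Units.map M.f.toMonoidHom p.1.1 else Units.map M.f.toMonoidHom (Units.map M.f.toMonoidHom p.1.1)

theorem par_fixed (p : Par M) : twPar symOKD4_tri M.f (par M p) = par M p := by
  funext i
  have hp : ∀ j < 4, symD4_3.pI.getD j 0 = [3, 1, 0, 2].getD j 0 := by decide +kernel
  have hi : i.val < 4 := i.2
  refine Units.ext ?_
  show M.f (par M p ⟨symD4_3.pI.getD i.val 0, _⟩ : K) = _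
  simp only [par, hp _ hi]
  rcases i with ⟨i, hi'⟩
  have : i < 4 := hi
  interval_cases i <;> simp [M.cube, p.2]

/-- The torus element. -/
noncomputable def tor (p : Par M) : ↥(grp M) :=
  ⟨torusHom chevD4 tblD4 K (par M p), diag_le_group certD4C (by rw [← torusHom_range certD4C]; exact ⟨_, rfl⟩),
    by rw [twSigma_torus certD4C symOKD4_tri, par_fixed]⟩

/-- The weights. -/
noncomputable def lam (p : Par M) (j : ℕ) : K :=
  chr tblD4 chevD4 (extend' (par M p)) ((orbit j).headD 0)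

theorem chr_step (p : Par M) {r : ℕ} (hr : r < 24) :
    chr tblD4 chevD4 (extend' (par M p)) (symD4_3.root r) = M.f (chr tblD4 chevD4 (extend' (par M p)) r) := by
  have := twPar_chr certD4C symOKD4_tri M.f (par M p) (lt24 hr)
  rwa [par_fixed] at this

theorem tor_el (p : Par M) {j : ℕ} (hj : j < 6) (v : K) :
    (tor M p : GL chevD4.Idx K) * el M j v * (tor M p : GL chevD4.Idx K)⁻¹ = el M j (lam M p j * v) := by
  obtain ⟨hr, -⟩ := sym_data
  simp only [List.cons.injEq, and_true] at hr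
  obtain ⟨r23, r22, r14, r20, r21, r17, r16, r15, r19, r18, r13, r12⟩ := hr
  set t := torusHom chevD4 tblD4 K (par M p)
  show t * _ * t⁻¹ = _
  have one : ∀ r < 24, ∀ a, t * xg certD4C r a * t⁻¹ = xg certD4C r (chr tblD4 chevD4 (extend' (par M p)) r * a) :=
    fun r hr a => torusHom_conj_xg certD4C (par M p) (lt24 hr) a
  have three : ∀ a b c : GL chevD4.Idx K, t * (a * b * c) * t⁻¹ = (t * a * t⁻¹) * (t * b * t⁻¹) * (t * c * t⁻¹) :=
    fun a b c => by group
  have fix : ∀ r < 24, symD4_3.root r = r →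
      M.f (chr tblD4 chevD4 (extend' (par M p)) r) = chr tblD4 chevD4 (extend' (par M p)) r :=
    fun r hr e => by have := chr_step M p hr; rw [e] at this; exact this.symm
  interval_cases j <;> simp only [el, lam, orbit, List.headD_cons]
  · rw [one 23 (by norm_num), tr_smul M (fix 23 (by norm_num) r23)]
  · rw [one 22 (by norm_num), tr_smul M (fix 22 (by norm_num) r22)]
  · rw [three, one 20 (by norm_num), one 21 (by norm_num), one 17 (by norm_num)]
    have e1 := chr_step M p (show 20 < 24 by norm_num)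
    have e2 := chr_step M p (show 21 < 24 by norm_num)
    rw [r20] at e1; rw [r21, e1] at e2
    rw [e1, e2]; simp only [map_mul, mul_neg]
  · rw [three, one 16 (by norm_num), one 15 (by norm_num), one 19 (by norm_num)]
    have e1 := chr_step M p (show 16 < 24 by norm_num)
    have e2 := chr_step M p (show 15 < 24 by norm_num)
    rw [r16] at e1; rw [r15, e1] at e2
    rw [e1, e2]; simp only [map_mul, mul_neg]
  · rw [one 14 (by norm_num), tr_smul M (fix 14 (by norm_num) r14)]
  · rw [three, one 18 (by norm_num), one 13 (by norm_num), one 12 (by norm_num)]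
    have e1 := chr_step M p (show 18 < 24 by norm_num)
    have e2 := chr_step M p (show 13 < 24 by norm_num)
    rw [r18] at e1; rw [r13, e1] at e2
    rw [e1, e2]; simp only [map_mul]

theorem cart_heads : ∀ j < 6, [tblD4.cartan 0 ((orbit j).headD 0), tblD4.cartan 1 ((orbit j).headD 0),
    tblD4.cartan 2 ((orbit j).headD 0), tblD4.cartan 3 ((orbit j).headD 0)] =
      [[0, 1, 0, 0], [1, -1, 1, 1], [1, 0, -1, 1], [-1, 1, 1, -1], [-1, 2, -1, -1], [2, -1, 0, 0]].getD j [] := by
  decide +kernel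

/-- The weights in coordinates. -/
theorem lam_eq (p : Par M) :
    lam M p 0 = (p.1.2 : K) ∧
    lam M p 1 = (p.1.1 : K) * M.f p.1.1 * M.f (M.f p.1.1) / p.1.2 ∧
    lam M p 2 = (p.1.1 : K) / M.f p.1.1 * M.f (M.f p.1.1) ∧
    lam M p 3 = (p.1.2 : K) * M.f p.1.1 / ((p.1.1 : K) * M.f (M.f p.1.1)) ∧
    lam M p 4 = (p.1.2 : K) ^ 2 / ((p.1.1 : K) * M.f p.1.1 * M.f (M.f p.1.1)) ∧
    lam M p 5 = (p.1.1 : K) ^ 2 / p.1.2 := by
  have e : ∀ j < 4, extend' (par M p) j =
      [(p.1.1 : K), (p.1.2 : K), M.f p.1.1, M.f (M.f p.1.1)].getD j 0 := by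
    intro j hj
    rw [extend', dif_pos (show j < chevD4.rank from hj)]
    interval_cases j <;> simp [par]
  have hc : ∀ j < 6, lam M p j = (p.1.1 : K) ^ tblD4.cartan 0 ((orbit j).headD 0) *
      (p.1.2 : K) ^ tblD4.cartan 1 ((orbit j).headD 0) * (M.f p.1.1) ^ tblD4.cartan 2 ((orbit j).headD 0) *
      (M.f (M.f p.1.1)) ^ tblD4.cartan 3 ((orbit j).headD 0) := by
    intro j _
    simp only [lam, chr, show chevD4.rank = 4 from rfl, Finset.prod_range_succ, Finset.prod_range_zero, one_mul,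
      e 0 (by norm_num), e 1 (by norm_num), e 2 (by norm_num), e 3 (by norm_num), List.getD_cons_zero,
      List.getD_cons_succ]
  have h0 := cart_heads 0 (by norm_num)
  have h1 := cart_heads 1 (by norm_num)
  have h2 := cart_heads 2 (by norm_num)
  have h3 := cart_heads 3 (by norm_num)
  have h4 := cart_heads 4 (by norm_num)
  have h5 := cart_heads 5 (by norm_num)
  simp only [List.getD_cons_zero, List.getD_cons_succ, List.cons.injEq, and_true] at h0 h1 h2 h3 h4 h5
  refine ⟨?_, ?_, ?_, ?_, ?_, ?_⟩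
  · rw [hc 0 (by norm_num), h0.1, h0.2.1, h0.2.2.1, h0.2.2.2]; simp
  · rw [hc 1 (by norm_num), h1.1, h1.2.1, h1.2.2.1, h1.2.2.2]; simp; field_simp
  · rw [hc 2 (by norm_num), h2.1, h2.2.1, h2.2.2.1, h2.2.2.2]; simp; field_simp
  · rw [hc 3 (by norm_num), h3.1, h3.2.1, h3.2.2.1, h3.2.2.2]; simp; field_simp
  · rw [hc 4 (by norm_num), h4.1, h4.2.1, h4.2.2.1, h4.2.2.2]
    simp only [zpow_neg, zpow_one, show ((p.1.2 : K) ^ (2 : ℤ)) = (p.1.2 : K) ^ 2 from zpow_natCast _ 2]
    field_simp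
  · rw [hc 5 (by norm_num), h5.1, h5.2.1, h5.2.2.1, h5.2.2.2]
    simp only [zpow_neg, zpow_one, zpow_zero, mul_one, show ((p.1.1 : K) ^ (2 : ℤ)) = (p.1.1 : K) ^ 2 from zpow_natCast _ 2]
    field_simp

/-- The chain of root groups. -/
noncomputable def chain (hq : ∀ j < 6, ∃ p, lam M p j ≠ 1) : RootChain K ↥(grp M) where
  N := 6
  X := X M
  ι := Par M
  t := tor M
  lam := lam M
  add := fun j hj => X_add M hj
  comm := fun p p' => Subtype.ext (by
    show torusHom chevD4 tblD4 K (par M p) * torusHom chevD4 tblD4 K (par M p') =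
      torusHom chevD4 tblD4 K (par M p') * torusHom chevD4 tblD4 K (par M p)
    rw [← map_mul, ← map_mul, mul_comm])
  conj := fun p j hj a => Subtype.ext (by
    rw [Subgroup.coe_mul, Subgroup.coe_mul, InvMemClass.coe_inv, X_val M hj, X_val M hj]
    exact tor_el M p hj a)
  moved := hq
  closed := fun j hj k hk => closed M hj hk
  inj := fun j hj a => inj M hj a

/-- A non-trivial element of the fixed field and the weights of the five test elements. -/
theorem sep (h3 : 3 ≤ M.q) :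
    (∀ j < 6, ∃ p, lam M p j ≠ 1) ∧
    (∀ p : ℕ, p.Prime → CharP K p → ∀ j < 6, ∀ k < j, ∃ i, lam M i k ≠ 0 ∧ ∀ e : ℕ, lam M i j ^ p ^ e * lam M i k ≠ 1) ∧
    (∀ p : ℕ, p.Prime → CharP K p → ∀ j, j = 2 ∨ j = 3 ∨ j = 5 → ∃ i, lam M i j ≠ 0 ∧
      ∀ e : ℕ, lam M i j ^ p ^ e * lam M i j ≠ 1) := by
  classical
  obtain ⟨g, hgo⟩ := IsCyclic.exists_ofOrder_eq_natCard (α := Kˣ)
  rw [Nat.card_units, Nat.card_eq_fintype_card, M.hK] at hgo
  set q := M.q with hq
  have hq2 : 2 * q ≤ q ^ 2 := by nlinarith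
  have hq3 : q ^ 2 * 3 ≤ q ^ 3 := by nlinarith
  have hpow : ∀ m n : ℕ, m < q ^ 3 - 1 → n < q ^ 3 - 1 → (g : K) ^ m = (g : K) ^ n → m = n := fun m n hm hn e =>
    pow_injOn_Iio_orderOf (x := g) (show m ∈ Set.Iio (orderOf g) by rw [hgo]; exact hm)
      (show n ∈ Set.Iio (orderOf g) by rw [hgo]; exact hn)
      (Units.ext (by simpa only [Units.val_pow_eq_pow_val] using e))
  have hdvd : ∀ m : ℕ, (g : K) ^ m = 1 → q ^ 3 - 1 ∣ m := fun m e => hgo ▸ orderOf_dvd_of_pow_eq_one
    (Units.ext (by simpa only [Units.val_pow_eq_pow_val, Units.val_one] using e))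
  have f1 : M.f g = (g : K) ^ q := M.pow _
  have f2 : M.f (M.f g) = (g : K) ^ (q ^ 2) := by rw [f1, map_pow, f1, ← pow_mul, sq]
  set N : K := (g : K) * M.f g * M.f (M.f g) with hN
  have hNp : N = (g : K) ^ (1 + q + q ^ 2) := by rw [hN, f2, f1, pow_add, pow_add, pow_one]
  have hN0 : N ≠ 0 := by rw [hNp]; exact pow_ne_zero _ g.ne_zero
  have hNf : M.f N = N := by rw [hN, map_mul, map_mul, M.cube]; ring
  have hN1 : N ≠ 1 := fun e => by
    have := hpow (1 + q + q ^ 2) 0 (by omega) (by omega) (by rw [← hNp, e, pow_zero])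
    omega
  have hg2 : (g : K) ^ 2 ≠ 1 := fun e => absurd (hpow 2 0 (by omega) (by omega) (by rw [e, pow_zero])) (by norm_num)
  have hA3 : (g : K) ^ 2 ≠ N := fun e => by
    have := hpow 2 (1 + q + q ^ 2) (by omega) (by omega) (e.trans hNp)
    omega
  have hfg2 : M.f g ^ 2 ≠ 1 := fun e => hg2 (M.f.injective (by rw [map_pow, e, map_one]))
  -- the weight of the middle short root has full order
  set d : K := (g : K) / M.f g * M.f (M.f g) with hd
  have hd0 : d ≠ 0 := by rw [hd]; simp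
  have hdq : d * (g : K) ^ q = (g : K) ^ (1 + q ^ 2) := by
    rw [hd, f2, f1, pow_add, pow_one]; field_simp
  have hdord : ∀ m : ℕ, d ^ m = 1 → q ^ 3 - 1 ∣ m := by
    intro m e
    have e2 : (g : K) ^ (q * m) = (g : K) ^ ((1 + q ^ 2) * m) := by
      rw [pow_mul, pow_mul, ← hdq, mul_pow, e, one_mul]
    have hle : q * m ≤ (1 + q ^ 2) * m := Nat.mul_le_mul_right m (by omega)
    have h1 : (g : K) ^ ((1 + q ^ 2 - q) * m) = 1 := by
      have h := e2
      rw [show (1 + q ^ 2) * m = q * m + (1 + q ^ 2 - q) * m by rw [Nat.sub_mul]; omega, pow_add] at h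
      exact (mul_eq_left₀ (pow_ne_zero _ g.ne_zero)).1 h.symm
    refine Nat.Coprime.dvd_of_dvd_mul_left ?_ (hdvd _ h1)
    refine Nat.coprime_of_dvd fun l hl h1 h2 => ?_
    have e3 : (q + 1) * (1 + q ^ 2 - q) = (q ^ 3 - 1) + 2 := by
      zify [show 1 ≤ q ^ 3 by omega, show q ≤ 1 + q ^ 2 by omega]; ring
    have h22 : l ∣ 2 := (Nat.dvd_add_right h1).1 (e3 ▸ Dvd.dvd.mul_left h2 _)
    have hl2 : l = 2 := (Nat.prime_dvd_prime_iff_eq hl Nat.prime_two).1 h22
    subst hl2
    obtain ⟨c, hc⟩ := h2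
    have : q ^ 2 + 1 = q + 2 * c := by omega
    rcases Nat.even_or_odd q with ⟨b, hb⟩ | ⟨b, hb⟩ <;> rw [hb] at this <;> ring_nf at this <;> omega
  let i1 : Par M := ⟨(1, Units.mk0 N hN0), hNf⟩
  let i2 : Par M := ⟨(g, 1), map_one M.f⟩
  let i3 : Par M := ⟨(g, Units.mk0 N hN0), hNf⟩
  let i4 : Par M := ⟨(Units.mk0 N hN0, Units.mk0 (N ^ 2) (pow_ne_zero 2 hN0)), by
    show M.f (N ^ 2) = N ^ 2; rw [map_pow, hNf]⟩
  let i5 : Par M := ⟨(Units.mk0 N hN0, Units.mk0 N hN0), hNf⟩
  obtain ⟨a0, a1, a2, a3, a4, a5⟩ := lam_eq M i1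
  obtain ⟨b0, b1, b2, b3, b4, b5⟩ := lam_eq M i2
  obtain ⟨c0, c1, c2, c3, c4, c5⟩ := lam_eq M i3
  obtain ⟨-, -, -, u3, u4, u5⟩ := lam_eq M i4
  obtain ⟨-, -, -, v3, v4, -⟩ := lam_eq M i5
  simp only [i1, Units.val_one, Units.val_mk0, map_one, one_mul, mul_one, one_pow, div_one, one_div] at a0 a1 a2 a3 a4 a5
  simp only [i2, Units.val_one, one_pow, one_mul, mul_one, div_one, ← hN] at b0 b1 b2 b3 b4 b5
  simp only [i3, Units.val_mk0, ← hN, div_self hN0] at c0 c1 c2 c3 c4 c5
  simp only [i4, Units.val_mk0, hNf] at u3 u4 u5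
  simp only [i5, Units.val_mk0, hNf] at v3 v4
  rw [← hd] at b2 c2
  have b3' : lam M i2 3 = d⁻¹ := by rw [b3, hd]; field_simp
  have hne0 : ∀ (i : Par M) (j : ℕ), lam M i j ≠ 0 := fun i j => by
    rw [lam, chr]
    exact Finset.prod_ne_zero_iff.2 fun k _ => zpow_ne_zero _ (extend'_ne _ _)
  refine ⟨fun j hj => ?_, fun p hp hch j hj k hk => ?_, fun p hp hch j hj => ?_⟩
  · interval_cases j
    · exact ⟨i1, by rw [a0]; exact hN1⟩
    · exact ⟨i2, by rw [b1]; exact hN1⟩
    · exact ⟨i2, by rw [b2]; exact fun e => absurd (hdord 1 (by rw [pow_one, e])) (Nat.not_dvd_of_pos_of_lt one_pos (by omega))⟩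
    · exact ⟨i2, by rw [b3']; exact fun e => absurd (hdord 1 (by rw [pow_one, inv_eq_one.1 e])) (Nat.not_dvd_of_pos_of_lt one_pos (by omega))⟩
    · exact ⟨i2, by rw [b4]; simpa using hN1⟩
    · exact ⟨i2, by rw [b5]; exact hg2⟩
  · haveI := Fact.mk hp
    haveI := hch
    haveI : ExpChar K p := ExpChar.prime hp
    -- a weight which is one against a weight which is not
    have left : ∀ i, lam M i k = 1 → lam M i j ≠ 1 → ∀ e : ℕ, lam M i j ^ p ^ e * lam M i k ≠ 1 := fun i h1 h2 e h => by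
      rw [h1, mul_one] at h
      exact h2 (iterateFrobenius_inj K p e (by simpa [iterateFrobenius_def] using h))
    have right : ∀ i, lam M i j = 1 → lam M i k ≠ 1 → ∀ e : ℕ, lam M i j ^ p ^ e * lam M i k ≠ 1 := fun i h1 h2 e h => by
      rw [h1, one_pow, one_mul] at h
      exact h2 h
    interval_cases j <;> interval_cases k
    -- (1,0)
    · exact ⟨i2, hne0 _ _, left _ b0 (by rw [b1]; exact hN1)⟩
    -- (2,0)
    · exact ⟨i2, hne0 _ _, left _ b0 (by rw [b2]; exact fun e => absurd (hdord 1 (by rw [pow_one, e])) (Nat.not_dvd_of_pos_of_lt one_pos (by omega)))⟩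
    -- (2,1)
    · exact ⟨i1, hne0 _ _, right _ a2 (by rw [a1, Ne, inv_eq_one]; exact hN1)⟩
    -- (3,0)
    · exact ⟨i2, hne0 _ _, left _ b0 (by rw [b3']; exact fun e => absurd (hdord 1 (by rw [pow_one, inv_eq_one.1 e])) (Nat.not_dvd_of_pos_of_lt one_pos (by omega)))⟩
    -- (3,1)
    · refine ⟨i3, hne0 _ _, left _ c1 ?_⟩
      rw [c3]
      intro e
      apply hfg2
      rw [div_eq_one_iff_eq (by simp)] at e
      rw [hN] at e
      field_simp at e ⊢
      linear_combination e
    -- (3,2)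
    · exact ⟨i1, hne0 _ _, fun e h => by
        rw [a2, mul_one, a3] at h
        exact hN1 (iterateFrobenius_inj K p e (by simpa [iterateFrobenius_def] using h))⟩
    -- (4,0)
    · exact ⟨i2, hne0 _ _, left _ b0 (by rw [b4]; simpa using hN1)⟩
    -- (4,1)
    · exact ⟨i3, hne0 _ _, left _ c1 (by rw [c4, sq, mul_div_assoc, div_self hN0, mul_one]; exact hN1)⟩
    -- (4,2)
    · refine ⟨i2, hne0 _ _, fun e h => ?_⟩
      rw [b4, b2] at h
      -- raising to q - 1 kills the fixed field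
      have hNq : N ^ (q - 1) = 1 := by
        have h1 : N ^ q = N := by rw [← M.pow, hNf]
        rw [show q = q - 1 + 1 by omega, pow_succ] at h1
        exact mul_right_cancel₀ hN0 (h1.trans (one_mul N).symm)
      have h2 : d ^ (q - 1) = 1 := by
        have := congrArg (· ^ (q - 1)) h
        simp only [one_pow] at this
        rw [mul_pow, ← pow_mul, mul_comm (p ^ e), pow_mul, one_div, inv_pow, hNq, inv_one, one_pow, one_mul] at this
        exact this
      exact absurd (hdord _ h2) (Nat.not_dvd_of_pos_of_lt (by omega) (by omega))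
    -- (4,3)
    · refine ⟨i5, hne0 _ _, left _ (by rw [v3]; field_simp) ?_⟩
      rw [v4]
      intro e
      apply hN1
      field_simp at e
      exact e.symm
    -- (5,0)
    · exact ⟨i2, hne0 _ _, left _ b0 (by rw [b5]; exact hg2)⟩
    -- (5,1)
    · exact ⟨i3, hne0 _ _, left _ c1 (by rw [c5, Ne, div_eq_one_iff_eq hN0]; exact hA3)⟩
    -- (5,2)
    · exact ⟨i1, hne0 _ _, fun e h => by
        rw [a2, mul_one, a5] at h
        have h' := iterateFrobenius_inj K p e (a₁ := N⁻¹) (a₂ := 1) (by simpa [iterateFrobenius_def] using h)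
        exact hN1 (inv_eq_one.1 h')⟩
    -- (5,3)
    · exact ⟨i4, hne0 _ _, right _ (by rw [u5]; field_simp) (by rw [u3]; field_simp; exact hN1)⟩
    -- (5,4)
    · exact ⟨i4, hne0 _ _, right _ (by rw [u5]; field_simp) (by rw [u4]; field_simp; exact hN1)⟩
  · haveI := Fact.mk hp
    haveI := hch
    obtain ⟨n, -, hn⟩ := FiniteField.card K p
    have hn' : q ^ 3 = p ^ (n : ℕ) := M.hK.symm.trans hn
    have hlow : ∀ e m : ℕ, 1 ≤ m → m ≤ 2 → ¬ q ^ 3 - 1 ∣ m * (p ^ (e % n) + 1) := by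
      intro e m hm1 hm2 hdv
      rw [hn'] at hdv hq3
      have hq27 : 27 ≤ p ^ (n : ℕ) := by rw [← hn']; exact le_trans (by norm_num) (Nat.pow_le_pow_left h3 3)
      have he : e % n < n := Nat.mod_lt _ n.pos
      have h5 : p * p ^ (e % n) ≤ p ^ (n : ℕ) := by
        rw [← pow_succ']; exact Nat.pow_le_pow_right hp.pos he
      rcases eq_or_ne p 2 with rfl | hp2
      · have hodd : ¬ 2 ∣ 2 ^ (n : ℕ) - 1 := by
          have : 2 ∣ 2 ^ (n : ℕ) := dvd_pow_self 2 n.ne_zero
          omega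
        have hdv' : 2 ^ (n : ℕ) - 1 ∣ 2 ^ (e % n) + 1 := by
          interval_cases m
          · simpa using hdv
          · exact ((Nat.prime_two.coprime_iff_not_dvd.2 hodd).symm).dvd_of_dvd_mul_left hdv
        have := Nat.le_of_dvd (by omega) hdv'
        omega
      · have h33 : 3 ≤ p := by have := hp.two_le; omega
        have := Nat.le_of_dvd (by positivity) hdv
        have h6 := Nat.mul_le_mul_right (p ^ (e % n)) h33
        interval_cases m <;> omega
    have hred : ∀ (x : K) (e : ℕ), x ^ p ^ e = x ^ p ^ (e % n) := by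
      intro x e
      conv_lhs => rw [← Nat.div_add_mod e n, pow_add, pow_mul p, ← hn, pow_mul, FiniteField.pow_card_pow]
    rcases hj with rfl | rfl | rfl
    · refine ⟨i2, hne0 _ _, fun e h => hlow e 1 le_rfl (by norm_num) ?_⟩
      rw [b2, hred] at h
      rw [one_mul]
      exact hdord _ (by rw [pow_succ]; exact h)
    · refine ⟨i2, hne0 _ _, fun e h => hlow e 1 le_rfl (by norm_num) ?_⟩
      rw [b3', hred, inv_pow, ← mul_inv, inv_eq_one] at h
      rw [one_mul]
      exact hdord _ (by rw [pow_succ]; exact h)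
    · refine ⟨i2, hne0 _ _, fun e h => hlow e 2 (by norm_num) le_rfl ?_⟩
      rw [b5, hred, ← pow_mul, ← pow_add] at h
      have := hdvd _ h
      rwa [mul_add, mul_one]

end Cfsg.Lib.Chev.TwMult.Tri
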